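import Groth.Agent.CurvSt.K742.LocBase0
import Groth.Agent.AlgSt.K748.FPsh
import Groth.Agent.AlgSt.K735.Pts

/-!
# Charts of categories fibred in groupoids: representability from products, and points (helper705)

* `K705.StGen.exists_univ`: if the product `Z` of `p(𝟙 U)` and `y(𝟙 B)` exists in `𝒵` then `(Sch/B) ×_𝒵 (Sch/U)` is
  represented by the base of `Z`.
* `K705.StGen.repByAlgSpWith_of_products`: a chart all of whose products with objects of the category exist etale locally and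
  are smooth over the object is representable and smooth.
* `K705.StGen.mk_eq_ofChart`, `K705.StGen.ofChart_eq_iff`: points of a chart.
-/

set_option autoImplicit false
set_option backward.isDefEq.respectTransparency false
set_option backward.isDefEq.respectTransparency.types false

universe w u

open CategoryTheory CategoryTheory.Limits AlgebraicGeometry Opposite K735.Fib K735.Fp K748.El

namespace K705.StGen

variable {S : Scheme.{u}}

section Core

variable {𝒵 : BasedCategory.{u, w} (Over S)} {B U : Over S}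
  (y : FibCat.overCat B ⥤ᵇ 𝒵) (p : FibCat.overCat U ⥤ᵇ 𝒵)

/-- The morphism to the base of the value at the identity. -/
noncomputable abbrev toB {Z : 𝒵.obj} (β : Z ⟶ y.obj (ob (𝟙 B))) : 𝒵.p.obj Z ⟶ B :=
  𝒵.p.map β ≫ eqToHom (y.w_obj (ob (𝟙 B)))

variable {y p}

/-- A morphism to the value at the identity is a pull back of the chart. -/
theorem exists_vert (h𝒵 : FibCat.IsFibGrpd 𝒵.p) {Z : 𝒵.obj} (β : Z ⟶ y.obj (ob (𝟙 B))) :
    ∃ c : y.obj (ob (toB y β)) ⟶ Z, 𝒵.p.map c = eqToHom (y.w_obj (ob (toB y β))) ∧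
      c ≫ β = y.map (ar (toB y β) (Category.comp_id _)) :=
  exists_hom h𝒵 β (y.map (ar (toB y β) (Category.comp_id _))) (eqToHom (y.w_obj (ob (toB y β)))) (by
    rw [p_map_ar]
    simp [toB])

/-- The product represents the fibre product presheaf. -/
theorem exists_univ (h𝒵 : FibCat.IsFibGrpd 𝒵.p) {Z : 𝒵.obj} (α : Z ⟶ p.obj (ob (𝟙 U))) (β : Z ⟶ y.obj (ob (𝟙 B)))
    (H : ∀ (Z' : 𝒵.obj) (a : Z' ⟶ p.obj (ob (𝟙 U))) (b : Z' ⟶ y.obj (ob (𝟙 B))),
      ∃! z : Z' ⟶ Z, z ≫ α = a ∧ z ≫ β = b) :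
    ∃ s₀ : FSec y p (𝒵.p.obj Z), s₀.b = toB y β ∧ ∀ (T : Over S) (s : FSec y p T),
      ∃! t : T ⟶ 𝒵.p.obj Z, FSec.IsRes t s₀ s := by
  obtain ⟨a₀, ha₀, ha₀'⟩ := exists_vert h𝒵 α
  obtain ⟨c₀, hc₀, hc₀'⟩ := exists_vert h𝒵 β
  have hva : Vert 𝒵.p a₀ := vert_of_map_eq _ ha₀
  have hvc : Vert 𝒵.p c₀ := vert_of_map_eq _ hc₀
  have := hvc.isIso h𝒵
  let s₀ : FSec y p (𝒵.p.obj Z) := ⟨toB y β, toB p α, a₀ ≫ inv c₀, hva.comp hvc.inv⟩
  refine ⟨s₀, rfl, fun T s => ?_⟩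
  let a : p.obj (ob s.u) ⟶ p.obj (ob (𝟙 U)) := p.map (ar s.u (Category.comp_id _))
  let b : p.obj (ob s.u) ⟶ y.obj (ob (𝟙 B)) := s.ψ ≫ y.map (ar s.b (Category.comp_id _))
  obtain ⟨z, ⟨hza, hzb⟩, hz⟩ := H _ a b
  refine ⟨eqToHom (p.w_obj (ob s.u)).symm ≫ 𝒵.p.map z, ?_, ?_⟩
  · have hb : (eqToHom (p.w_obj (ob s.u)).symm ≫ 𝒵.p.map z) ≫ toB y β = s.b := by
      rw [toB, Category.assoc, ← Category.assoc (𝒵.p.map z), ← Functor.map_comp, hzb, Functor.map_comp, s.hψ.map_eq,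
        p_map_ar]
      simp
    have hu : (eqToHom (p.w_obj (ob s.u)).symm ≫ 𝒵.p.map z) ≫ toB p α = s.u := by
      rw [toB, Category.assoc, ← Category.assoc (𝒵.p.map z), ← Functor.map_comp, hza, p_map_ar]
      simp
    refine ⟨hb, hu, ?_⟩
    have e1 : p.map (ar (eqToHom (p.w_obj (ob s.u)).symm ≫ 𝒵.p.map z) hu) ≫ a₀ = z := by
      apply hom_ext' h𝒵 α
      · rw [Functor.map_comp, p_map_ar, ha₀]
        simp
      · rw [Category.assoc, ha₀', ← p.map_comp, ar_comp _ _ _ _ (by rw [Category.comp_id, hu]), hza]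
        change p.map (ar (_ ≫ _) _) = p.map (ar s.u _)
        congr 1
        exact Over.OverMorphism.ext hu
    have e2 : (s.ψ ≫ y.map (ar (eqToHom (p.w_obj (ob s.u)).symm ≫ 𝒵.p.map z) hb)) ≫ c₀ = z := by
      apply hom_ext' h𝒵 β
      · rw [Functor.map_comp, Functor.map_comp, p_map_ar, hc₀, s.hψ.map_eq]
        simp
      · rw [Category.assoc, Category.assoc, hc₀', ← y.map_comp, ar_comp _ _ _ _ (by rw [Category.comp_id, hb]), hzb]
        change s.ψ ≫ y.map (ar (_ ≫ _) _) = s.ψ ≫ y.map (ar s.b _)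
        congr 2
        exact Over.OverMorphism.ext hb
    change p.map _ ≫ a₀ ≫ inv c₀ = _
    rw [← Category.assoc, IsIso.comp_inv_eq, e1]
    exact e2.symm
  · rintro t ⟨hb, hu, e⟩
    have hb' : t ≫ toB y β = s.b := hb
    have hu' : t ≫ toB p α = s.u := hu
    have e' : p.map (ar t hu') ≫ a₀ = (s.ψ ≫ y.map (ar t hb')) ≫ c₀ := by
      rw [← IsIso.comp_inv_eq, Category.assoc]
      exact e
    have h1 : p.map (ar t hu') ≫ a₀ = z := by
      apply hz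
      constructor
      · rw [Category.assoc, ha₀', ← p.map_comp, ar_comp _ _ _ _ (by rw [Category.comp_id, hu'])]
        change p.map (ar (_ ≫ _) _) = p.map (ar s.u _)
        congr 1
        exact Over.OverMorphism.ext hu'
      · rw [e', Category.assoc, Category.assoc, hc₀', ← y.map_comp, ar_comp _ _ _ _ (by rw [Category.comp_id, hb'])]
        change s.ψ ≫ y.map (ar (_ ≫ _) _) = s.ψ ≫ y.map (ar s.b _)
        congr 2
        exact Over.OverMorphism.ext hb'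
    rw [← h1, Functor.map_comp, p_map_ar, ha₀]
    simp

/-- The isomorphism of presheaves. -/
theorem exists_iso (h𝒵 : FibCat.IsFibGrpd 𝒵.p) {Z : 𝒵.obj} (α : Z ⟶ p.obj (ob (𝟙 U))) (β : Z ⟶ y.obj (ob (𝟙 B)))
    (H : ∀ (Z' : 𝒵.obj) (a : Z' ⟶ p.obj (ob (𝟙 U))) (b : Z' ⟶ y.obj (ob (𝟙 B))),
      ∃! z : Z' ⟶ Z, z ≫ α = a ∧ z ≫ β = b) :
    ∃ i : (AlgSp.pyon S).obj (𝒵.p.obj Z) ≅ fpsh y p h𝒵,
      i.hom ≫ fb y p h𝒵 = (AlgSp.pyon S).map (toB y β) := by
  obtain ⟨s₀, hs₀, hu⟩ := exists_univ h𝒵 α β H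
  let f : (AlgSp.pyon S).obj (𝒵.p.obj Z) ⟶ fpsh y p h𝒵 :=
    { app := fun T => ↾fun t => (fpsh y p h𝒵).map t.down.op s₀
      naturality := fun T T' g => by
        ext t
        change (fpsh y p h𝒵).map (g.unop ≫ t.down).op s₀ = (fpsh y p h𝒵).map g ((fpsh y p h𝒵).map t.down.op s₀)
        rw [op_comp, Functor.map_comp_apply]
        rfl }
  have hf : ∀ T, IsIso (f.app T) := by
    intro T
    rw [isIso_iff_bijective]
    constructor
    · rintro ⟨t⟩ ⟨t'⟩ h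
      obtain ⟨r, -, hr⟩ := hu T.unop ((fpsh y p h𝒵).map t.op s₀)
      have h1 := hr t (isRes_map h𝒵 t s₀)
      have h2 := hr t' ((fpsh_map_eq_iff h𝒵 t' s₀ _).1 h.symm)
      rw [h1, h2]
    · intro s
      obtain ⟨r, hr, -⟩ := hu T.unop s
      exact ⟨⟨r⟩, (fpsh_map_eq_iff h𝒵 r s₀ s).2 hr⟩
  have : IsIso f := NatIso.isIso_of_isIso_app f
  refine ⟨asIso f, ?_⟩
  ext T t
  change (⟨((fpsh y p h𝒵).map t.down.op s₀ : FSec y p T.unop).b⟩ : ULift _) = ⟨t.down ≫ toB y β⟩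
  congr 1
  rw [← hs₀]
  exact (isRes_map h𝒵 t.down s₀).choose.symm

/-- The fibre product is represented by the base of the product. -/
theorem repAt_of_product (h𝒵 : FibCat.IsFibGrpd 𝒵.p) {Z : 𝒵.obj} (α : Z ⟶ p.obj (ob (𝟙 U))) (β : Z ⟶ y.obj (ob (𝟙 B)))
    (H : ∀ (Z' : 𝒵.obj) (a : Z' ⟶ p.obj (ob (𝟙 U))) (b : Z' ⟶ y.obj (ob (𝟙 B))),
      ∃! z : Z' ⟶ Z, z ≫ α = a ∧ z ≫ β = b) (hβ : Smooth (𝒵.p.map β).left) :
    K739.Rep.RepAt (AlgSp.LocP @Smooth) (FibCat.fpFst y p) := by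
  obtain ⟨i, hi⟩ := exists_iso h𝒵 α β H
  refine (K739.Rep.repAt_iff_repPsh _ _ (isEquivOver_toFpF h𝒵)).2 ?_
  rw [prMap_toFpF]
  refine ⟨⟨(AlgSp.yon S).obj (𝒵.p.obj Z), AlgSp.IsAlgSpace.yon_obj _⟩, i, ?_⟩
  rw [hi]
  refine K597.locP_of_repWith K597.etLoc_smooth.precomp ((AlgSp.repWith_yon_map_iff @Smooth (toB y β)).2 ?_)
  have : IsIso (eqToHom (y.w_obj (ob (𝟙 B)))).left := inferInstance
  change Smooth ((𝒵.p.map β).left ≫ (eqToHom (y.w_obj (ob (𝟙 B)))).left)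
  infer_instance

end Core

section Charts

variable {𝒳 : BasedCategory.{u, w} (Over S)} {U : Over S} (X : FibCat.overCat U ⥤ᵇ 𝒳)

/-- A chart all of whose products with objects of the category (etale locally on the base of the object) exist and have a
smooth projection is representable and smooth. -/
theorem repByAlgSpWith_of_products (hs : Stk.IsPrestack (AlgSp.J S) 𝒳)
    (H : ∀ (Y : 𝒳.obj) (t : (𝒳.p.obj Y).left), ∃ (Y' : 𝒳.obj) (g : Y' ⟶ Y) (t' : (𝒳.p.obj Y').left) (Z : 𝒳.obj)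
      (α : Z ⟶ X.obj (Over.mk (𝟙 U))) (β : Z ⟶ Y'), Etale (𝒳.p.map g).left ∧ (𝒳.p.map g).left t' = t ∧
      (∀ (Z' : 𝒳.obj) (a : Z' ⟶ X.obj (Over.mk (𝟙 U))) (b : Z' ⟶ Y'), ∃! z : Z' ⟶ Z, z ≫ α = a ∧ z ≫ β = b) ∧
      Smooth (𝒳.p.map β).left) :
    AlgSt.RepByAlgSpWith (AlgSp.LocP @Smooth) X := by
  refine K742.Atlas0.repByAlgSpWith_of_local_base hs K597.etLoc_smooth X fun T y t => ?_
  have e : T = 𝒳.p.obj (y.obj (ob (𝟙 T))) := (y.w_obj (ob (𝟙 T))).symm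
  obtain ⟨Y', g, t', Z, α, β, hg, ht', hZ, hβ⟩ := H (y.obj (ob (𝟙 T))) ((eqToHom e).left t)
  refine ⟨𝒳.p.obj Y', toB y g, t', ?_, ?_, ?_⟩
  · have : IsIso (eqToHom (y.w_obj (ob (𝟙 T)))).left := inferInstance
    change Etale ((𝒳.p.map g).left ≫ (eqToHom (y.w_obj (ob (𝟙 T)))).left)
    infer_instance
  · change ((𝒳.p.map g).left ≫ (eqToHom (y.w_obj (ob (𝟙 T)))).left) t' = t
    rw [Scheme.Hom.comp_apply, ht', ← Scheme.Hom.comp_apply, ← Over.comp_left, eqToHom_trans, eqToHom_refl]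
    rfl
  · obtain ⟨c, hc, hc'⟩ := exists_vert hs.1 g
    have hvc : Vert 𝒳.p c := vert_of_map_eq _ hc
    have hv1 : Vert 𝒳.p (y.map (ar (𝟙 (𝒳.p.obj Y')) rfl : ob (𝟙 (𝒳.p.obj Y') ≫ toB y g) ⟶ ob (toB y g))) := by
      rw [vert_map_iff]
      exact vert_of_map_eq rfl rfl
    let κ : (BasedFunctor.comp (AlgSt.overMap (toB y g)) y).obj (ob (𝟙 (𝒳.p.obj Y'))) ⟶ Y' :=
      y.map (ar (𝟙 (𝒳.p.obj Y')) rfl : ob (𝟙 (𝒳.p.obj Y') ≫ toB y g) ⟶ ob (toB y g)) ≫ c
    have hκ : Vert 𝒳.p κ := hv1.comp hvc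
    have := hκ.isIso hs.1
    refine repAt_of_product hs.1 (y := BasedFunctor.comp (AlgSt.overMap (toB y g)) y) (p := X) α (β ≫ inv κ) ?_ ?_
    · intro Z' a b
      obtain ⟨z, ⟨h1, h2⟩, h3⟩ := hZ Z' a (b ≫ κ)
      refine ⟨z, ⟨h1, by rw [← Category.assoc, h2, Category.assoc, IsIso.hom_inv_id, Category.comp_id]⟩, ?_⟩
      rintro z' ⟨h4, h5⟩
      refine h3 z' ⟨h4, ?_⟩
      rw [← h5, Category.assoc, Category.assoc, IsIso.inv_hom_id, Category.comp_id]
    · rw [Functor.map_comp, Over.comp_left]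
      have : IsIso (𝒳.p.map (inv κ)).left := inferInstance
      infer_instance

/-- A field valued point with a morphism to the value of a chart at the identity. -/
theorem mk_eq_ofChart_aux (h𝒳 : FibCat.IsFibGrpd 𝒳.p) (p : AlgSt.FPt 𝒳) (α : p.obj ⟶ X.obj (Over.mk (𝟙 U)))
    (f : (Over.mk p.str : Over S) ⟶ U) (hf : eqToHom p.lies ≫ f = toB X α) (z : Spec (CommRingCat.of p.K))
    (v : U.left) (hv : f.left z = v) : AlgSt.Points.mk p = AlgSt.Points.ofChart X v := by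
  obtain rfl : z = IsLocalRing.closedPoint p.K := Subsingleton.elim _ _
  obtain ⟨g, hg⟩ : ∃ g : Spec (CommRingCat.of p.K) ⟶ Spec (U.left.residueField v),
      g ≫ U.left.fromSpecResidueField v = f.left := by
    subst hv
    exact ⟨_, (Scheme.SpecToEquivOfField p.K U.left).left_inv f.left⟩
  let ι : (Over.mk (U.left.fromSpecResidueField v ≫ U.hom) : Over S) ⟶ U :=
    Over.homMk (U.left.fromSpecResidueField v) rfl
  let G : (Over.mk p.str : Over S) ⟶ Over.mk (U.left.fromSpecResidueField v ≫ U.hom) := Over.homMk g (by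
    change g ≫ U.left.fromSpecResidueField v ≫ U.hom = p.str
    rw [← Category.assoc, hg]
    exact Over.w f)
  have hG : G ≫ ι = f := Over.OverMorphism.ext hg
  obtain ⟨χ, -, -⟩ := exists_hom h𝒳 (X.map (toId (Over.mk ι : (FibCat.overCat U).obj))) α
    (eqToHom p.lies ≫ G ≫ eqToHom (X.w_obj (Over.mk ι)).symm) (by
      rw [map_map]
      change (eqToHom p.lies ≫ G ≫ eqToHom _) ≫ eqToHom _ ≫ ι ≫ eqToHom _ = _
      rw [Category.assoc, Category.assoc, eqToHom_trans_assoc, eqToHom_refl, Category.id_comp, reassoc_of% hG,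
        ← Category.assoc, hf, Category.assoc, eqToHom_trans, eqToHom_refl, Category.comp_id])
  exact K735.Pts.mk_eq_of_hom (p := p) χ

/-- A field valued point with a morphism to the value of a chart at the identity is the image of a point of the chart. -/
theorem mk_eq_ofChart (h𝒳 : FibCat.IsFibGrpd 𝒳.p) (p : AlgSt.FPt 𝒳) (α : p.obj ⟶ X.obj (Over.mk (𝟙 U)))
    (z : (𝒳.p.obj p.obj).left) :
    AlgSt.Points.mk p = AlgSt.Points.ofChart X ((𝒳.p.map α ≫ eqToHom (X.w_obj (Over.mk (𝟙 U)))).left z) := by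
  refine mk_eq_ofChart_aux X h𝒳 p α (eqToHom p.lies.symm ≫ toB X α) ?_ ((eqToHom p.lies).left z) _ ?_
  · rw [eqToHom_trans_assoc, eqToHom_refl, Category.id_comp]
  · rw [← Scheme.Hom.comp_apply, ← Over.comp_left, eqToHom_trans_assoc, eqToHom_refl, Category.id_comp]
    rfl

/-- Two points of a chart have the same image iff they come from a common field valued point. -/
theorem ofChart_eq_iff (h𝒳 : FibCat.IsFibGrpd 𝒳.p) (v v' : U.left) :
    AlgSt.Points.ofChart X v = AlgSt.Points.ofChart X v' ↔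
      ∃ (r : AlgSt.FPt 𝒳) (α α' : r.obj ⟶ X.obj (Over.mk (𝟙 U))),
        (∀ z, (𝒳.p.map α ≫ eqToHom (X.w_obj (Over.mk (𝟙 U)))).left z = v) ∧
        (∀ z, (𝒳.p.map α' ≫ eqToHom (X.w_obj (Over.mk (𝟙 U)))).left z = v') := by
  have key : ∀ (w : U.left) (r : AlgSt.FPt 𝒳) (a : r.obj ⟶ X.obj (Over.mk (Over.homMk (U.left.fromSpecResidueField w) rfl :
      Over.mk (U.left.fromSpecResidueField w ≫ U.hom) ⟶ U))) (z : (𝒳.p.obj r.obj).left),
      (𝒳.p.map (a ≫ X.map (toId _)) ≫ eqToHom (X.w_obj (Over.mk (𝟙 U)))).left z = w := by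
    intro w r a z
    rw [Functor.map_comp, map_map]
    change ((𝒳.p.map a ≫ eqToHom _ ≫ (Over.homMk (U.left.fromSpecResidueField w) rfl :
      Over.mk (U.left.fromSpecResidueField w ≫ U.hom) ⟶ U) ≫ eqToHom _) ≫ eqToHom _).left z = w
    rw [Category.assoc, Category.assoc, Category.assoc, eqToHom_trans, eqToHom_refl, Category.comp_id,
      ← Category.assoc, Over.comp_left, Scheme.Hom.comp_apply]
    exact Scheme.fromSpecResidueField_apply _ _
  constructor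
  · intro h
    obtain ⟨r, a, b, -⟩ := (K735.Pts.mk_eq_mk_iff h𝒳).1 h
    exact ⟨r, a ≫ X.map (toId _), b ≫ X.map (toId _), key v r a, key v' r b⟩
  · rintro ⟨r, α, α', h, h'⟩
    have z : (𝒳.p.obj r.obj).left := (eqToHom r.lies.symm).left (IsLocalRing.closedPoint r.K)
    rw [← h z, ← h' z, ← mk_eq_ofChart X h𝒳 r α z, ← mk_eq_ofChart X h𝒳 r α' z]

end Charts

end K705.StGen
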