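import Groth.Agent.Fano.K470.CurDef

/-!
# Lines without residual double lines (helper705, job 441)

`NoDbl T x p`: no plane through the line `⟨x, p⟩` of the cubic `T v v v = 0` cuts it in `⟨x, p⟩ + 2 L'`.
-/

set_option autoImplicit false

universe u

namespace K705.IncDef

/-- no plane through `⟨x, p⟩` cuts the cubic in `⟨x, p⟩` and a double line -/
def NoDbl {k : Type u} [Field k] (T : (Fin 5 → k) →ₗ[k] (Fin 5 → k) →ₗ[k] (Fin 5 → k) →ₗ[k] k)
    (x p : Fin 5 → k) : Prop :=
  ∀ q : Fin 5 → k, LinearIndependent k ![x, p, q] → ¬ ∃ l m n : k, ∀ u v w : k,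
    T (u • x + v • p + w • q) (u • x + v • p + w • q) (u • x + v • p + w • q) = 3 * w * (l * u + m * v + n * w) ^ 2

end K705.IncDef
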