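import Groth.Agent.Fano.K705.IncAbs
import Groth.Agent.Fano.K705.IncDef

/-!
# The curve of lines meeting a general line of a smooth cubic threefold is irreducible (helper705, job 441)

`irr_inc_of`: `Inc T x p` is irreducible for a line `⟨x, p⟩` of first type without residual double lines
(`K705.IncDef.NoDbl`).
-/

set_option autoImplicit false

universe u

namespace K705.IncIrr

open MvPolynomial LefPen Groth.Agent.Lefpen.H703.ZOpen Module K714.Irr K714.Frames K470.Cur K656.Trilin K714.Surf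
  K705.ConeDom K705.IncAbs K705.IncDef

variable {k : Type u} [Field k] {T : (Fin 5 → k) →ₗ[k] (Fin 5 → k) →ₗ[k] (Fin 5 → k) →ₗ[k] k}

section gen

variable (ι : (Fin 3 → k) →ₗ[k] (Fin 5 → k)) (x : Fin 5 → k)

/-- generic vector of the complement -/
noncomputable def gv : Fin 5 → MvPolynomial (Fin 3) k := fun i => ∑ j, C (ι (Pi.single j 1) i) * X j

/-- constant vector -/
noncomputable def cv : Fin 5 → MvPolynomial (Fin 3) k := fun i => C (x i)

theorem eval_gv (v : Fin 3 → k) : (fun i => eval v (gv ι i)) = ι v := by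
  funext i
  have h : v = ∑ j, v j • (Pi.single j 1 : Fin 3 → k) := by
    conv_lhs => rw [← Finset.univ_sum_single v]
    refine Finset.sum_congr rfl fun i _ => ?_
    rw [← Pi.single_smul, smul_eq_mul, mul_one]
  conv_rhs => rw [h]
  simp only [gv, map_sum, map_mul, eval_C, eval_X, map_smul, Finset.sum_apply, Pi.smul_apply, smul_eq_mul]
  exact Finset.sum_congr rfl fun j _ => mul_comm _ _

theorem eval_cv (v : Fin 3 → k) : (fun i => eval v (cv x i)) = x := by
  funext i
  simp [cv]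

theorem pderiv_gv (l : Fin 3) : (fun i => pderiv l (gv ι i)) = cv (ι (Pi.single l 1)) := by
  funext i
  simp only [gv, cv, map_sum, pderiv_C_mul, pderiv_X, Pi.single_apply]
  simp

theorem pderiv_cv (l : Fin 3) : (fun i => pderiv l (cv x i)) = cv (0 : Fin 5 → k) := by
  funext i
  simp [cv]

theorem hom_gv (i : Fin 5) : (gv ι i).IsHomogeneous 1 :=
  IsHomogeneous.sum _ _ _ fun j _ => by
    simpa using (isHomogeneous_C (Fin 3) (ι (Pi.single j 1) i)).mul (isHomogeneous_X k j)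

theorem hom_cv (i : Fin 5) : (cv x i).IsHomogeneous 0 := isHomogeneous_C _ _

theorem hom_pT (T : (Fin 5 → k) →ₗ[k] (Fin 5 → k) →ₗ[k] (Fin 5 → k) →ₗ[k] k) {u v w : Fin 5 → MvPolynomial (Fin 3) k}
    {l m n : ℕ} (hu : ∀ i, (u i).IsHomogeneous l) (hv : ∀ i, (v i).IsHomogeneous m) (hw : ∀ i, (w i).IsHomogeneous n) :
    (pT T u v w).IsHomogeneous (l + m + n) :=
  IsHomogeneous.sum _ _ _ fun i _ => IsHomogeneous.sum _ _ _ fun j _ => IsHomogeneous.sum _ _ _ fun r _ => by
    simpa using (isHomogeneous_C (Fin 3) (T (Pi.single i 1) (Pi.single j 1) (Pi.single r 1))).mul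
      (((hu i).mul (hv j)).mul (hw r))

end gen

section alg

/-- a symmetric matrix of rank at most one is a square -/
theorem exists_sq [IsAlgClosed k] {a b c d e f : k} (m1 : a * c = b ^ 2) (m2 : a * e = b * d) (m4 : a * f = d ^ 2)
    (m6 : c * f = e ^ 2) :
    ∃ l m n : k, a = l ^ 2 ∧ b = l * m ∧ c = m ^ 2 ∧ d = l * n ∧ e = m * n ∧ f = n ^ 2 := by
  by_cases ha : a = 0
  · have hb : b = 0 := by
      have : b ^ 2 = 0 := by rw [← m1, ha, zero_mul]
      simpa using this
    have hd : d = 0 := by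
      have : d ^ 2 = 0 := by rw [← m4, ha, zero_mul]
      simpa using this
    by_cases hc : c = 0
    · have he : e = 0 := by
        have : e ^ 2 = 0 := by rw [← m6, hc, zero_mul]
        simpa using this
      obtain ⟨n, hn⟩ := IsAlgClosed.exists_pow_nat_eq f (n := 2) (by norm_num)
      exact ⟨0, 0, n, by simp [ha], by simp [hb], by simp [hc], by simp [hd], by simp [he], hn.symm⟩
    · obtain ⟨m, hm⟩ := IsAlgClosed.exists_pow_nat_eq c (n := 2) (by norm_num)
      have hm0 : m ≠ 0 := by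
        rintro rfl
        apply hc
        rw [← hm]
        simp
      refine ⟨0, m, e / m, by simp [ha], by simp [hb], hm.symm, by simp [hd], ?_, ?_⟩
      · field_simp
      · rw [div_pow, hm, eq_div_iff hc]
        linear_combination m6
  · obtain ⟨l, hl⟩ := IsAlgClosed.exists_pow_nat_eq a (n := 2) (by norm_num)
    have hl0 : l ≠ 0 := by
      rintro rfl
      apply ha
      rw [← hl]
      simp
    refine ⟨l, b / l, d / l, hl.symm, ?_, ?_, ?_, ?_, ?_⟩
    · field_simp
    · rw [div_pow, hl, eq_div_iff ha]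
      linear_combination m1
    · field_simp
    · rw [div_mul_div_comm, ← pow_two, hl, eq_div_iff ha]
      linear_combination m2
    · rw [div_pow, hl, eq_div_iff ha]
      linear_combination m4

/-- a nonzero kernel vector computing the derivative of the determinant -/
theorem exists_ker {a b c d e f : k} (hD : a * (c * f - e ^ 2) - b * (b * f - d * e) + d * (b * e - c * d) = 0)
    (hrk : a * c - b ^ 2 = 0 → a * e - b * d = 0 → b * e - c * d = 0 → a * f - d ^ 2 = 0 → b * f - d * e = 0 →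
      c * f - e ^ 2 = 0 → False) :
    ∃ n1 n2 n3 m : k, (n1 ≠ 0 ∨ n2 ≠ 0 ∨ n3 ≠ 0) ∧ n1 * a + n2 * b + n3 * d = 0 ∧ n1 * b + n2 * c + n3 * e = 0 ∧
      n1 * d + n2 * e + n3 * f = 0 ∧ ∀ a' b' c' d' e' f' : k,
        m * ((c * f - e ^ 2) * a' + 2 * (d * e - b * f) * b' + (a * f - d ^ 2) * c' + 2 * (b * e - c * d) * d' +
          2 * (b * d - a * e) * e' + (a * c - b ^ 2) * f') =
        n1 ^ 2 * a' + 2 * n1 * n2 * b' + n2 ^ 2 * c' + 2 * n1 * n3 * d' + 2 * n2 * n3 * e' + n3 ^ 2 * f' := by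
  by_cases h1 : c * f - e ^ 2 = 0
  · by_cases h2 : a * f - d ^ 2 = 0
    · by_cases h3 : a * c - b ^ 2 = 0
      · exfalso
        refine hrk h3 ?_ ?_ h2 ?_ h1
        · have : (a * e - b * d) ^ 2 = 0 := by linear_combination (a * f - d ^ 2) * h3 - a * hD
          simpa using this
        · have : (b * e - c * d) ^ 2 = 0 := by linear_combination (c * f - e ^ 2) * h3 - c * hD
          simpa using this
        · have : (b * f - d * e) ^ 2 = 0 := by linear_combination (c * f - e ^ 2) * h2 - f * hD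
          simpa using this
      · refine ⟨b * e - c * d, b * d - a * e, a * c - b ^ 2, a * c - b ^ 2, Or.inr (Or.inr h3), ?_, ?_, ?_, ?_⟩
        · ring
        · ring
        · linear_combination hD
        · intro a' b' c' d' e' f'
          linear_combination (c * a' - 2 * b * b' + a * c') * hD
    · refine ⟨d * e - b * f, a * f - d ^ 2, b * d - a * e, a * f - d ^ 2, Or.inr (Or.inl h2), ?_, ?_, ?_, ?_⟩
      · ring
      · linear_combination hD
      · ring
      · intro a' b' c' d' e' f'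
        linear_combination (f * a' - 2 * d * d' + a * f') * hD
  · refine ⟨c * f - e ^ 2, d * e - b * f, b * e - c * d, c * f - e ^ 2, Or.inl h1, ?_, ?_, ?_, ?_⟩
    · linear_combination hD
    · ring
    · ring
    · intro a' b' c' d' e' f'
      linear_combination (f * c' - 2 * e * e' + c * f') * hD

end alg

section setting

variable {x p : Fin 5 → k} {ι : (Fin 3 → k) →ₗ[k] (Fin 5 → k)}

/-- the six forms -/
noncomputable def pa (T : (Fin 5 → k) →ₗ[k] (Fin 5 → k) →ₗ[k] (Fin 5 → k) →ₗ[k] k) (x y : Fin 5 → k)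
    (ι : (Fin 3 → k) →ₗ[k] (Fin 5 → k)) : MvPolynomial (Fin 3) k := pT T (cv x) (cv y) (gv ι)

noncomputable def pd (T : (Fin 5 → k) →ₗ[k] (Fin 5 → k) →ₗ[k] (Fin 5 → k) →ₗ[k] k) (x : Fin 5 → k)
    (ι : (Fin 3 → k) →ₗ[k] (Fin 5 → k)) : MvPolynomial (Fin 3) k := C (1 / 2) * pT T (cv x) (gv ι) (gv ι)

noncomputable def pf (T : (Fin 5 → k) →ₗ[k] (Fin 5 → k) →ₗ[k] (Fin 5 → k) →ₗ[k] k)
    (ι : (Fin 3 → k) →ₗ[k] (Fin 5 → k)) : MvPolynomial (Fin 3) k := C (1 / 3) * pT T (gv ι) (gv ι) (gv ι)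

theorem hom_pa (x y : Fin 5 → k) : (pa T x y ι).IsHomogeneous 1 :=
  hom_pT T (hom_cv x) (hom_cv y) (hom_gv ι)

theorem hom_pd (x : Fin 5 → k) : (pd T x ι).IsHomogeneous 2 :=
  (isHomogeneous_C (Fin 3) (1 / 2 : k)).mul (hom_pT T (hom_cv x) (hom_gv ι) (hom_gv ι))

theorem hom_pf : (pf T ι).IsHomogeneous 3 :=
  (isHomogeneous_C (Fin 3) (1 / 3 : k)).mul (hom_pT T (hom_gv ι) (hom_gv ι) (hom_gv ι))

theorem eval_pa (x y : Fin 5 → k) (v : Fin 3 → k) : eval v (pa T x y ι) = T x y (ι v) := by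
  rw [pa, eval_pT, eval_cv, eval_cv, eval_gv]

theorem eval_pd (x : Fin 5 → k) (v : Fin 3 → k) : eval v (pd T x ι) = 1 / 2 * T x (ι v) (ι v) := by
  rw [pd, map_mul, eval_C, eval_pT, eval_cv, eval_gv]

theorem eval_pf (v : Fin 3 → k) : eval v (pf T ι) = 1 / 3 * T (ι v) (ι v) (ι v) := by
  rw [pf, map_mul, eval_C, eval_pT, eval_gv]

theorem pderiv_pa (x y : Fin 5 → k) (v : Fin 3 → k) (l : Fin 3) :
    eval v (pderiv l (pa T x y ι)) = T x y (ι (Pi.single l 1)) := by
  rw [pa, pderiv_pT]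
  simp only [pderiv_cv, pderiv_gv, map_add, eval_pT, eval_cv, eval_gv]
  simp

theorem pderiv_pd [CharZero k] (hT : IsSym3 T) (x : Fin 5 → k) (v : Fin 3 → k) (l : Fin 3) :
    eval v (pderiv l (pd T x ι)) = T x (ι v) (ι (Pi.single l 1)) := by
  rw [pd, pderiv_C_mul, pderiv_pT]
  simp only [pderiv_cv, pderiv_gv, map_add, map_mul, eval_C, eval_pT, eval_cv, eval_gv]
  rw [hT.s23 x (ι (Pi.single l 1)) (ι v)]
  simp only [map_zero, LinearMap.zero_apply]
  ring

theorem pderiv_pf [CharZero k] (hT : IsSym3 T) (v : Fin 3 → k) (l : Fin 3) :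
    eval v (pderiv l (pf T ι)) = T (ι v) (ι v) (ι (Pi.single l 1)) := by
  rw [pf, pderiv_C_mul, pderiv_pT]
  simp only [pderiv_gv, map_add, map_mul, eval_C, eval_pT, eval_cv, eval_gv]
  rw [hT.rot (ι (Pi.single l 1)) (ι v) (ι v), hT.s23 (ι v) (ι (Pi.single l 1)) (ι v)]
  ring

/-- derivative of the determinant -/
theorem pderiv_dt [CharZero k] (hT : IsSym3 T) (v : Fin 3 → k) (i : Fin 3) (a b c d e f : k)
    (ha : T x x (ι v) = a) (hb : T x p (ι v) = b) (hc : T p p (ι v) = c) (hd : 1 / 2 * T x (ι v) (ι v) = d)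
    (he : 1 / 2 * T p (ι v) (ι v) = e) (hf : 1 / 3 * T (ι v) (ι v) (ι v) = f) :
    eval v (pderiv i (dt (pa T x x ι) (pa T x p ι) (pa T p p ι) (pd T x ι) (pd T p ι) (pf T ι))) =
      (c * f - e ^ 2) * T x x (ι (Pi.single i 1)) + 2 * (d * e - b * f) * T x p (ι (Pi.single i 1)) +
      (a * f - d ^ 2) * T p p (ι (Pi.single i 1)) + 2 * (b * e - c * d) * T x (ι v) (ι (Pi.single i 1)) +
      2 * (b * d - a * e) * T p (ι v) (ι (Pi.single i 1)) +
      (a * c - b ^ 2) * T (ι v) (ι v) (ι (Pi.single i 1)) := by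
  have e1 := pderiv_pa (T := T) (ι := ι) x x v i
  have e2 := pderiv_pa (T := T) (ι := ι) x p v i
  have e3 := pderiv_pa (T := T) (ι := ι) p p v i
  have e4 := pderiv_pd (ι := ι) hT x v i
  have e5 := pderiv_pd (ι := ι) hT p v i
  have e6 := pderiv_pf (ι := ι) hT v i
  rw [← eval_pa] at ha hb hc
  rw [← eval_pd] at hd he
  rw [← eval_pf] at hf
  simp only [dt, map_add, map_sub, Derivation.leibniz, Derivation.leibniz_pow, smul_eq_mul, map_mul, map_pow,
    nsmul_eq_mul, e1, e2, e3, e4, e5, e6, ha, hb, hc, hd, he, hf, Nat.cast_ofNat, map_ofNat]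
  ring

/-- rank at least two -/
theorem rank_ge [IsAlgClosed k] [CharZero k] (hT : IsSym3 T) (hL : (x, p) ∈ FR T)
    (hι0 : ∀ (α β : k) (v : Fin 3 → k), α • x + β • p + ι v = 0 → α = 0 ∧ β = 0 ∧ v = 0) (h2 : NoDbl T x p)
    {v : Fin 3 → k} (hv : v ≠ 0) {a b c d e f : k}
    (ha : T x x (ι v) = a) (hb : T x p (ι v) = b) (hc : T p p (ι v) = c) (hd : 1 / 2 * T x (ι v) (ι v) = d)
    (he : 1 / 2 * T p (ι v) (ι v) = e) (hf : 1 / 3 * T (ι v) (ι v) (ι v) = f) (m1 : a * c - b ^ 2 = 0)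
    (m2 : a * e - b * d = 0) (m4 : a * f - d ^ 2 = 0) (m6 : c * f - e ^ 2 = 0) : False := by
  obtain ⟨-, t1, t2, t3, t4⟩ := hL
  simp only at t1 t2 t3 t4
  refine h2 (ι v) ?_ ?_
  · rw [Fintype.linearIndependent_iff]
    intro g hg
    rw [Fin.sum_univ_three] at hg
    simp only [Matrix.cons_val] at hg
    rw [← map_smul] at hg
    obtain ⟨h3, h4, h5⟩ := hι0 _ _ _ hg
    have h6 : g 2 = 0 := (smul_eq_zero.1 h5).resolve_right hv
    intro i
    fin_cases i
    exacts [h3, h4, h6]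
  · obtain ⟨l, m, n, r1, r2, r3, r4, r5, r6⟩ := exists_sq (sub_eq_zero.1 m1) (sub_eq_zero.1 m2) (sub_eq_zero.1 m4)
      (sub_eq_zero.1 m6)
    refine ⟨l, m, n, fun u v' w => ?_⟩
    rw [hT.cube_add_smul, hT.cube_smul_add_smul, hT.sq_smul_add_smul, t1, t2, t3, t4]
    simp only [map_add, map_smul, LinearMap.add_apply, LinearMap.smul_apply, smul_eq_mul]
    have hd' : T x (ι v) (ι v) = 2 * d := by rw [← hd]; ring
    have he' : T p (ι v) (ι v) = 2 * e := by rw [← he]; ring
    have hf' : T (ι v) (ι v) (ι v) = 3 * f := by rw [← hf]; ring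
    rw [ha, hb, hc, hd', he', hf', r1, r2, r3, r4, r5, r6]
    ring

/-- the discriminant curve is smooth -/
theorem smooth_dt [IsAlgClosed k] [CharZero k] (hT : IsSym3 T) (hsm : SmoothOn T ⊤) (hL : (x, p) ∈ FR T)
    (hι0 : ∀ (α β : k) (v : Fin 3 → k), α • x + β • p + ι v = 0 → α = 0 ∧ β = 0 ∧ v = 0)
    (hι : ∀ y : Fin 5 → k, ∃ (α β : k) (v : Fin 3 → k), y = α • x + β • p + ι v) (h2 : NoDbl T x p) :
    Sm (dt (pa T x x ι) (pa T x p ι) (pa T p p ι) (pd T x ι) (pd T p ι) (pf T ι)) := by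
  suffices h : ∀ v : Fin 3 → k, v ≠ 0 →
      eval v (dt (pa T x x ι) (pa T x p ι) (pa T p p ι) (pd T x ι) (pd T p ι) (pf T ι)) = 0 →
      ∃ i : Fin 3, eval v (pderiv i (dt (pa T x x ι) (pa T x p ι) (pa T p p ι) (pd T x ι) (pd T p ι) (pf T ι))) ≠ 0
    from h
  intro v hv hDv
  by_contra hcon
  push Not at hcon
  have hL' := hL
  obtain ⟨-, t1, t2, t3, t4⟩ := hL'
  simp only at t1 t2 t3 t4
  simp only [dt, map_add, map_sub, map_mul, map_pow, eval_pa, eval_pd, eval_pf] at hDv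
  obtain ⟨n1, n2, n3, m, hn, k1, k2, k3, key⟩ := exists_ker hDv
    (fun m1 m2 _ m4 _ m6 => rank_ge hT hL hι0 h2 hv rfl rfl rfl rfl rfl rfl m1 m2 m4 m6)
  set z : Fin 5 → k := n1 • x + n2 • p + n3 • ι v with hz
  have hTz : ∀ w, T z z w = n1 ^ 2 * T x x w + 2 * n1 * n2 * T x p w + n2 ^ 2 * T p p w + 2 * n1 * n3 * T x (ι v) w +
      2 * n2 * n3 * T p (ι v) w + n3 ^ 2 * T (ι v) (ι v) w := by
    intro w
    rw [hz]
    simp only [map_add, map_smul, LinearMap.add_apply, LinearMap.smul_apply, smul_eq_mul]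
    rw [hT.s12 p x w, hT.s12 (ι v) x w, hT.s12 (ι v) p w]
    ring
  have hx0 : T z z x = 0 := by
    rw [hTz, t1, hT.s23 x p x, t2, hT.rot' p p x, t3, hT.s23 x (ι v) x, hT.rot' p (ι v) x, hT.rot' (ι v) (ι v) x]
    linear_combination 2 * n3 * k1
  have hp0 : T z z p = 0 := by
    rw [hTz, t2, t3, t4, hT.s23 x (ι v) p, hT.s23 p (ι v) p, hT.rot' (ι v) (ι v) p]
    linear_combination 2 * n3 * k2
  have hι1 : ∀ w : Fin 3 → k, T z z (ι w) = 0 := by
    have hsingle : ∀ i : Fin 3, T z z (ι (Pi.single i 1)) = 0 := by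
      intro i
      have h3 := hcon i
      rw [pderiv_dt hT v i _ _ _ _ _ _ rfl rfl rfl rfl rfl rfl] at h3
      rw [hTz, ← key, h3, mul_zero]
    intro w
    have h3 : (T z z).comp ι = 0 := LinearMap.pi_ext' fun j => LinearMap.ext_ring (by simpa using hsingle j)
    exact congrArg (fun φ : (Fin 3 → k) →ₗ[k] k => φ w) h3
  have hall : ∀ w, T z z w = 0 := by
    intro w
    obtain ⟨α, β, v', rfl⟩ := hι w
    rw [map_add, map_add, map_smul, map_smul, hx0, hp0, hι1]
    simp
  have hz0 : z ≠ 0 := by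
    intro h0
    rw [hz, ← map_smul] at h0
    obtain ⟨h3, h4, h5⟩ := hι0 _ _ _ h0
    rcases hn with h | h | h
    · exact h h3
    · exact h h4
    · exact h ((smul_eq_zero.1 h5).resolve_right hv)
  obtain ⟨w, -, hw⟩ := hsm z Submodule.mem_top hz0 (hall z)
  exact hw (hall w)

/-- the first type condition: `(T x x, T x p, T p p)` is an isomorphism on the complement -/
theorem surj_of_first (hL : (x, p) ∈ FR T) (hT : IsSym3 T) (h1 : First T x p)
    (hι : ∀ y : Fin 5 → k, ∃ (α β : k) (v : Fin 3 → k), y = α • x + β • p + ι v) :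
    Function.Bijective (LinearMap.pi ![(T x x).comp ι, (T x p).comp ι, (T p p).comp ι] :
      (Fin 3 → k) →ₗ[k] (Fin 3 → k)) := by
  obtain ⟨-, t1, t2, t3, t4⟩ := hL
  simp only at t1 t2 t3 t4
  suffices h : Function.Surjective (LinearMap.pi ![(T x x).comp ι, (T x p).comp ι, (T p p).comp ι] :
      (Fin 3 → k) →ₗ[k] (Fin 3 → k)) from ⟨LinearMap.injective_iff_surjective.2 h, h⟩
  rw [← LinearMap.range_eq_top]
  by_contra hne
  obtain ⟨φ, hφ0, hφ⟩ := Submodule.exists_le_ker_of_lt_top _ (lt_top_iff_ne_top.2 hne)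
  apply hφ0
  have h2 : ∀ w : Fin 3 → k, φ w = ∑ i, w i * φ (Pi.single i 1) := by
    intro w
    conv_lhs => rw [← Finset.univ_sum_single w, map_sum]
    refine Finset.sum_congr rfl fun i _ => ?_
    have h1 : (Pi.single i (w i) : Fin 3 → k) = w i • Pi.single i 1 := by
      rw [← Pi.single_smul, smul_eq_mul, mul_one]
    rw [h1, map_smul, smul_eq_mul]
  have h3 : ∀ v, φ (Pi.single 0 1) * T x x (ι v) + φ (Pi.single 1 1) * T x p (ι v) +
      φ (Pi.single 2 1) * T p p (ι v) = 0 := by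
    intro v
    have h4 : φ _ = 0 := hφ ⟨v, rfl⟩
    rw [h2, Fin.sum_univ_three] at h4
    simp only [LinearMap.pi_apply, Matrix.cons_val, LinearMap.comp_apply] at h4
    linear_combination h4
  have h5 : ∑ i, (fun i => φ (Pi.single i 1)) i • (![T x x, T x p, T p p] i : (Fin 5 → k) →ₗ[k] k) = 0 := by
    rw [Fin.sum_univ_three]
    refine LinearMap.ext fun y => ?_
    obtain ⟨α, β, v, rfl⟩ := hι y
    simp only [Matrix.cons_val, LinearMap.add_apply, LinearMap.smul_apply, map_add, map_smul, smul_eq_mul,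
      LinearMap.zero_apply]
    rw [t1, t2, t3, t4, hT.s23 x p x, t2, hT.rot' p p x, t3]
    linear_combination h3 v
  have h6 := Fintype.linearIndependent_iff.1 h1 _ h5
  refine LinearMap.ext fun w => ?_
  rw [h2 w]
  simp [h6]

/-- values on a residual line -/
theorem vals (hT : IsSym3 T) (hL : (x, p) ∈ FR T) (w : Fin 5 → k) (s α τ : k) :
    T (x + s • p) (x + s • p) (x + s • p) = 0 ∧
    T (x + s • p) (x + s • p) (α • (x + s • p) + τ • p + w) = T x x w + 2 * T x p w * s + T p p w * s ^ 2 ∧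
    T (x + s • p) (α • (x + s • p) + τ • p + w) (α • (x + s • p) + τ • p + w) =
      2 * α * (T x x w + 2 * T x p w * s + T p p w * s ^ 2) +
      (2 * (T p p w * s + T x p w) * τ + T x w w + s * T p w w) ∧
    T (α • (x + s • p) + τ • p + w) (α • (x + s • p) + τ • p + w) (α • (x + s • p) + τ • p + w) =
      3 * α ^ 2 * (T x x w + 2 * T x p w * s + T p p w * s ^ 2) +
      3 * α * (2 * (T p p w * s + T x p w) * τ + T x w w + s * T p w w) +
      (3 * T p p w * τ ^ 2 + 3 * T p w w * τ + T w w w) := by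
  obtain ⟨-, t1, t2, t3, t4⟩ := hL
  simp only at t1 t2 t3 t4
  have xpx : T x p x = 0 := by rw [hT.s23, t2]
  have pxx : T p x x = 0 := by rw [hT.rot, t2]
  have pxp : T p x p = 0 := by rw [hT.s12, t3]
  have ppx : T p p x = 0 := by rw [hT.rot', t3]
  have xwx : T x w x = T x x w := hT.s23 _ _ _
  have wxx : T w x x = T x x w := hT.rot _ _ _
  have xwp : T x w p = T x p w := hT.s23 _ _ _
  have pxw : T p x w = T x p w := hT.s12 _ _ _
  have pwx : T p w x = T x p w := hT.rot' _ _ _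
  have wxp : T w x p = T x p w := hT.rot _ _ _
  have wpx : T w p x = T x p w := hT.s13 _ _ _
  have pwp : T p w p = T p p w := hT.s23 _ _ _
  have wpp : T w p p = T p p w := hT.rot _ _ _
  have wxw : T w x w = T x w w := hT.s12 _ _ _
  have wwx : T w w x = T x w w := hT.rot' _ _ _
  have wpw : T w p w = T p w w := hT.s12 _ _ _
  have wwp : T w w p = T p w w := hT.rot' _ _ _
  refine ⟨?_, ?_, ?_, ?_⟩ <;>
    simp only [map_add, map_smul, LinearMap.add_apply, LinearMap.smul_apply, smul_eq_mul, t1, t2, t3, t4, xpx, pxx, pxp,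
      ppx, xwx, wxx, xwp, pxw, pwx, wxp, wpx, pwp, wpp, wxw, wwx, wpw, wwp] <;> ring

theorem irr_inc_aux [IsAlgClosed k] [CharZero k] (hT : IsSym3 T) (hsm : SmoothOn T ⊤) (hL : (x, p) ∈ FR T)
    (hι0 : ∀ (α β : k) (v : Fin 3 → k), α • x + β • p + ι v = 0 → α = 0 ∧ β = 0 ∧ v = 0)
    (hι : ∀ y : Fin 5 → k, ∃ (α β : k) (v : Fin 3 → k), y = α • x + β • p + ι v) (h1 : First T x p)
    (h2 : NoDbl T x p) : Irr k (Inc T x p) := by
  obtain ⟨hinj, hsurj⟩ := surj_of_first hL hT h1 hι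
  have hcoord : ∀ v w : Fin 3 → k, (LinearMap.pi ![(T x x).comp ι, (T x p).comp ι, (T p p).comp ι] :
      (Fin 3 → k) →ₗ[k] (Fin 3 → k)) v = w → T x x (ι v) = w 0 ∧ T x p (ι v) = w 1 ∧ T p p (ι v) = w 2 := by
    intro v w h
    exact ⟨congrFun h 0, congrFun h 1, congrFun h 2⟩
  obtain ⟨v1, hv1⟩ := hsurj ![1, 0, 0]
  obtain ⟨v3, hv3⟩ := hsurj ![0, 0, 1]
  obtain ⟨a1, b1, c1⟩ := hcoord _ _ hv1
  obtain ⟨a3, b3, c3⟩ := hcoord _ _ hv3
  simp only [Matrix.cons_val] at a1 b1 c1 a3 b3 c3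
  have hJ : Irr k (JJ (pa T x x ι) (pa T x p ι) (pa T p p ι) (pd T x ι) (pd T p ι) (pf T ι)) := by
    refine irr_JJ two_ne_zero (hom_pa x x) (hom_pa x p) (hom_pa p p) (hom_pd x) (hom_pd p) hom_pf
      (smooth_dt hT hsm hL hι0 hι h2) (v1 := v1) (v3 := v3) ?_ ?_ ?_ ?_ ?_
    · simp only [eval_pa]
      exact ⟨a1, b1, c1⟩
    · simp only [eval_pa]
      exact ⟨a3, b3, c3⟩
    · simp only [eval_pa, map_add, a1, b1, c1, a3, b3, c3]
      simp
    · intro v ea eb ec
      simp only [eval_pa] at ea eb ec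
      apply hinj
      rw [map_zero]
      funext i
      fin_cases i
      exacts [ea, eb, ec]
    · intro v hv m1 m2 m3 m4 m5 m6
      simp only [map_sub, map_mul, map_pow, eval_pa, eval_pd, eval_pf] at m1 m2 m4 m6
      exact rank_ge hT hL hι0 h2 hv rfl rfl rfl rfl rfl rfl m1 m2 m4 m6
  have hJ' := (hJ.prod_univ (W := k)).image
    (φ := fun w : ((k × k) × (Fin 3 → k)) × k => (w.1.1.1, w.2 • (x + w.1.1.1 • p) + w.1.1.2 • p + ι w.1.2)) (by
      have q1 : IsPolyMap k (fun w : ((k × k) × (Fin 3 → k)) × k => w.1.1.1) :=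
        pm_comp isPolyMap_fst (pm_comp isPolyMap_fst isPolyMap_fst)
      have q2 : IsPolyMap k (fun w : ((k × k) × (Fin 3 → k)) × k => w.1.1.2) :=
        pm_comp isPolyMap_snd (pm_comp isPolyMap_fst isPolyMap_fst)
      refine pm_prodMk q1 (pm_add (pm_add (pm_smul (isPolyMap_iff_isPolyFun.1 isPolyMap_snd)
        (pm_add (isPolyMap_const x) (pm_smul (isPolyMap_iff_isPolyFun.1 q1) (isPolyMap_const p))))
        (pm_smul (isPolyMap_iff_isPolyFun.1 q2) (isPolyMap_const p))) ?_)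
      exact pm_comp (isPolyMap_linear ι) (pm_comp isPolyMap_snd isPolyMap_fst))
  have h2' : (2 : k) ≠ 0 := two_ne_zero
  have h3' : (3 : k) ≠ 0 := three_ne_zero
  convert hJ' using 1
  ext ⟨s, y⟩
  constructor
  · rintro ⟨hli, -, -, f1, f2, f3⟩
    simp only at hli f1 f2 f3
    obtain ⟨α, β, v, rfl⟩ := hι y
    have hy : α • x + β • p + ι v = α • (x + s • p) + (β - α * s) • p + ι v := by
      rw [sub_smul, smul_add, mul_smul]
      abel
    rw [hy] at f1 f2 f3
    obtain ⟨-, g1, g2, g3⟩ := vals hT hL (ι v) s α (β - α * s)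
    rw [g1] at f1
    rw [g2, f1, mul_zero, zero_add] at f2
    rw [g3, f1, f2, mul_zero, mul_zero, zero_add, zero_add] at f3
    refine ⟨(((s, β - α * s), v), α), ⟨?_, ?_, ?_, ?_⟩, ?_⟩
    · rintro h0
      simp only at h0
      rw [h0, map_zero, add_zero] at hli
      have := Fintype.linearIndependent_iff.1 hli ![α, β, -1] (by
        rw [Fin.sum_univ_three]
        simp
        abel) 2
      simp at this
    · simp only [eval_pa]
      exact f1
    · simp only [eval_pa, eval_pd]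
      apply mul_left_cancel₀ h2'
      linear_combination f2
    · simp only [eval_pa, eval_pd, eval_pf]
      apply mul_left_cancel₀ h3'
      linear_combination f3
    · simp only
      rw [hy]
  · rintro ⟨⟨⟨⟨s', τ⟩, v⟩, α⟩, ⟨hv, e1, e2, e3⟩, he⟩
    simp only [Prod.mk.injEq] at hv e1 e2 e3 he
    obtain ⟨rfl, rfl⟩ := he
    simp only [eval_pa, eval_pd, eval_pf] at e1 e2 e3
    have hli : LinearIndependent k ![x, p, α • (x + s' • p) + τ • p + ι v] := by
      rw [Fintype.linearIndependent_iff]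
      intro g hg
      rw [Fin.sum_univ_three] at hg
      simp only [Matrix.cons_val] at hg
      obtain ⟨i1, i2, i3⟩ := hι0 (g 0 + g 2 * α) (g 1 + g 2 * (α * s' + τ)) (g 2 • v) (by
        rw [map_smul, ← hg]
        simp only [add_smul, mul_smul, smul_add, mul_add]
        abel)
      have i4 : g 2 = 0 := (smul_eq_zero.1 i3).resolve_right hv
      rw [i4, zero_mul, add_zero] at i1 i2
      intro i
      fin_cases i
      exacts [i1, i2, i4]
    obtain ⟨g0, g1, g2, g3⟩ := vals hT hL (ι v) s' α τ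
    refine ⟨hli, ?_, g0, ?_, ?_, ?_⟩
    · simp only
      rw [LinearIndependent.pair_iff]
      intro l m hlm
      have i := Fintype.linearIndependent_iff.1 hli ![l, l * s', m] (by
        rw [Fin.sum_univ_three]
        simp only [Matrix.cons_val]
        rw [← hlm, smul_add l, mul_smul])
      exact ⟨i 0, i 2⟩
    · simp only
      rw [g1, e1]
    · simp only
      rw [g2, e1]
      linear_combination 2 * e2
    · simp only
      rw [g3, e1]
      linear_combination 6 * α * e2 + 3 * e3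

end setting

/-- **The curve of lines meeting a line of first type without residual double lines is irreducible.** -/
theorem irr_inc_of [IsAlgClosed k] [CharZero k] (hT : IsSym3 T) (hsm : SmoothOn T ⊤) {x p : Fin 5 → k}
    (hL : (x, p) ∈ FR T) (h1 : First T x p) (h2 : NoDbl T x p) : Irr k (Inc T x p) := by
  have hli : LinearIndependent k ![x, p] := hL.1
  obtain ⟨q, hq⟩ := (Submodule.span k (Set.range ![x, p])).exists_isCompl
  have hfin : finrank k ↥q = 3 := by
    have h3 := Submodule.finrank_add_eq_of_isCompl hq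
    rw [finrank_span_eq_card hli, Fintype.card_fin, finrank_fin_fun] at h3
    omega
  let e : (Fin 3 → k) ≃ₗ[k] ↥q := (finBasisOfFinrankEq k ↥q hfin).equivFun.symm
  have hmem : ∀ α β : k, α • x + β • p ∈ Submodule.span k (Set.range ![x, p]) := fun α β =>
    Submodule.add_mem _ (Submodule.smul_mem _ _ (Submodule.subset_span ⟨0, rfl⟩))
      (Submodule.smul_mem _ _ (Submodule.subset_span ⟨1, rfl⟩))
  refine irr_inc_aux (ι := q.subtype.comp e.toLinearMap) hT hsm hL ?_ ?_ h1 h2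
  · intro α β v h0
    have h3 : α • x + β • p = - (e v : Fin 5 → k) := eq_neg_of_add_eq_zero_left h0
    have h4 : α • x + β • p ∈ q := by
      rw [h3]
      exact q.neg_mem (e v).2
    have h5 : α • x + β • p = 0 := by
      have := Submodule.disjoint_def.1 hq.disjoint _ (hmem α β) h4
      exact this
    obtain ⟨h6, h7⟩ := LinearIndependent.pair_iff.1 hli α β h5
    refine ⟨h6, h7, ?_⟩
    rw [h5, zero_add] at h0
    have h8 : e v = 0 := Subtype.ext h0
    exact (LinearEquiv.map_eq_zero_iff e).1 h8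
  · intro y
    have hy : y ∈ Submodule.span k (Set.range ![x, p]) ⊔ q := by
      rw [hq.sup_eq_top]
      trivial
    obtain ⟨a, ha, b, hb, rfl⟩ := Submodule.mem_sup.1 hy
    obtain ⟨c, hc⟩ := (Submodule.mem_span_range_iff_exists_fun k).1 ha
    rw [Fin.sum_univ_two] at hc
    refine ⟨c 0, c 1, e.symm ⟨b, hb⟩, ?_⟩
    rw [← hc]
    simp

end K705.IncIrr
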