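import Groth.Agent.CInt.K139.ConeNormal
import Groth.Agent.CurvesC.RegNormal
import Groth.Agent.Lefpen.H718.Reg
import Mathlib.RingTheory.Nullstellensatz

/-!
# Cones over smooth plane curves, square roots (helper705)

* `normal_cone`: `k[x_0..x_N]/(D)` is a normal domain for a form `D` of positive degree, nonsingular outside the origin,
  `2 ≤ N`.
* `dvd_of_forall_eval`: a polynomial vanishing on the zero locus of the prime `D` is divisible by `D`.
* `exists_sqrt`: a square root of `δ` in the fraction field of the normal domain lifts to a polynomial.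
-/

set_option autoImplicit false

universe u

namespace K705.ConeDom

open MvPolynomial

variable {k : Type u} [Field k] [IsAlgClosed k]

/-- nonsingular outside the origin -/
def Sm {N : ℕ} (D : MvPolynomial (Fin (N + 1)) k) : Prop :=
  ∀ v : Fin (N + 1) → k, v ≠ 0 → eval v D = 0 → ∃ i, eval v (pderiv i D) ≠ 0

theorem exists_pderiv_notMem {N : ℕ} {D : MvPolynomial (Fin (N + 1)) k} (hsm : Sm D)
    (P : Ideal (MvPolynomial (Fin (N + 1)) k)) [hP : P.IsPrime] (hD : D ∈ P) {j : Fin (N + 1)} (hj : X j ∉ P) :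
    ∃ l, pderiv l D ∉ P := by
  by_contra hcon
  push Not at hcon
  apply hj
  have h1 := MvPolynomial.IsPrime.vanishingIdeal_zeroLocus (K := k) P
  rw [← h1, mem_vanishingIdeal_iff]
  intro v hv
  have hv' : ∀ p ∈ P, eval v p = 0 := fun p hp => by
    have := hv p hp
    rwa [aeval_eq_eval] at this
  have h2 : v = 0 := by
    by_contra hne
    obtain ⟨i, hi⟩ := hsm v hne (hv' D hD)
    exact hi (hv' _ (hcon i))
  rw [h2]
  simp

omit [IsAlgClosed k] in
theorem Sm.ne_zero {N : ℕ} {D : MvPolynomial (Fin (N + 1)) k} (hsm : Sm D) : D ≠ 0 := by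
  rintro rfl
  obtain ⟨i, hi⟩ := hsm (fun _ => 1) (fun h => one_ne_zero (congrFun h 0)) (by simp)
  simp at hi

theorem normal_cone {N d : ℕ} (hN : 1 < N) {D : MvPolynomial (Fin (N + 1)) k} (hD : D.IsHomogeneous d) (hd : 0 < d)
    (hsm : Sm D) :
    IsDomain (MvPolynomial (Fin (N + 1)) k ⧸ Ideal.span {D}) ∧
      IsIntegrallyClosed (MvPolynomial (Fin (N + 1)) k ⧸ Ideal.span {D}) := by
  have hD0 : D ≠ 0 := hsm.ne_zero
  have hr : Set.range (fun _ : Fin 1 => D) = {D} := by
    ext x
    simp [eq_comm]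
  have key := K139.ConeNormal.normal (k := k) (N := N) (d := 1) (fun _ => D) (fun _ => by
    rw [MvPolynomial.constantCoeff_eq]
    refine hD.coeff_eq_zero ?_
    simp only [map_zero]
    exact hd.ne) (by
    rw [hr, Nat.cast_one]
    exact Ideal.one_le_height_span_singleton_of_mem_nonZeroDivisors (mem_nonZeroDivisors_of_ne_zero hD0))
    (a := fun _ => d) (fun _ => hD) hN ?_
  · change IsDomain (MvPolynomial (Fin (N + 1)) k ⧸ Ideal.span (Set.range fun _ : Fin 1 => D)) ∧
      IsIntegrallyClosed (MvPolynomial (Fin (N + 1)) k ⧸ Ideal.span (Set.range fun _ : Fin 1 => D)) at key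
    rw [hr] at key
    exact key
  · intro Q hQ ⟨j, hj⟩
    let P := Q.comap (Ideal.Quotient.mk (Ideal.span (Set.range fun _ : Fin 1 => D)))
    have hP : ∀ i : Fin 1, (fun _ : Fin 1 => D) i ∈ P := fun i => by
      change Ideal.Quotient.mk (Ideal.span (Set.range fun _ : Fin 1 => D)) D ∈ Q
      have h0 : Ideal.Quotient.mk (Ideal.span (Set.range fun _ : Fin 1 => D)) D = 0 :=
        Ideal.Quotient.eq_zero_iff_mem.2 (Ideal.subset_span ⟨0, rfl⟩)
      rw [h0]
      exact zero_mem _
    have hPp : P.IsPrime := inferInstance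
    obtain ⟨l, hl⟩ := exists_pderiv_notMem hsm P (hP 0) (j := j) hj
    have hlin : LinearIndependent P.ResidueField (fun i : Fin 1 => fun l : Fin (N + 1) =>
        algebraMap (MvPolynomial (Fin (N + 1)) k) P.ResidueField (pderiv l ((fun _ : Fin 1 => D) i))) := by
      refine LinearIndependent.of_subsingleton 0 ?_
      intro h
      have h1 := congrFun h l
      have h2 : pderiv l D ∈ P := by
        rw [← Ideal.algebraMap_residueField_eq_zero]
        exact h1
      exact hl h2
    obtain ⟨h1, h2⟩ := Groth.Agent.Lefpen.H718.Reg.regular_quotient P (ι := Fin 1) (fun _ => D) hP hlin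
    have h3 : Ideal.span (Set.range fun i : Fin 1 => algebraMap (MvPolynomial (Fin (N + 1)) k) (Localization.AtPrime P)
        ((fun _ : Fin 1 => D) i)) =
        (Ideal.span (Set.range fun _ : Fin 1 => D)).map (algebraMap _ (Localization.AtPrime P)) := by
      rw [Ideal.map_span, ← Set.range_comp]
      rfl
    rw [h3] at h1
    obtain ⟨e⟩ := Groth.Agent.Lefpen.H718.Reg.nonempty_quotient_equiv (MvPolynomial (Fin (N + 1)) k)
      (Ideal.span (Set.range fun _ : Fin 1 => D)) Q
    have h4 : IsRegularLocalRing (Localization.AtPrime Q) := IsRegularLocalRing.of_ringEquiv e.symm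
    exact ⟨Groth.Agent.CurvesC.RegNormal.isDomain (Localization.AtPrime Q),
      Groth.Agent.CurvesC.RegNormal.isIntegrallyClosed (Localization.AtPrime Q)⟩

theorem dvd_of_forall_eval {N : ℕ} {D : MvPolynomial (Fin (N + 1)) k} (hD : Prime D) {p : MvPolynomial (Fin (N + 1)) k}
    (h : ∀ v, eval v D = 0 → eval v p = 0) : D ∣ p := by
  have hP : (Ideal.span {D}).IsPrime := (Ideal.span_singleton_prime hD.ne_zero).2 hD
  rw [← Ideal.mem_span_singleton, ← MvPolynomial.IsPrime.vanishingIdeal_zeroLocus (K := k) (Ideal.span {D}),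
    mem_vanishingIdeal_iff]
  intro v hv
  rw [aeval_eq_eval]
  refine h v ?_
  have := hv D (Ideal.mem_span_singleton_self D)
  rwa [aeval_eq_eval] at this

omit [IsAlgClosed k] in
theorem prime_of_isDomain {N : ℕ} {D : MvPolynomial (Fin (N + 1)) k} (hD : D ≠ 0)
    [IsDomain (MvPolynomial (Fin (N + 1)) k ⧸ Ideal.span {D})] : Prime D :=
  (Ideal.span_singleton_prime hD).1 ((Ideal.Quotient.isDomain_iff_prime _).1 inferInstance)

omit [IsAlgClosed k] in
theorem exists_sqrt {N : ℕ} {D : MvPolynomial (Fin (N + 1)) k}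
    [IsDomain (MvPolynomial (Fin (N + 1)) k ⧸ Ideal.span {D})]
    [IsIntegrallyClosed (MvPolynomial (Fin (N + 1)) k ⧸ Ideal.span {D})]
    {α β δ : MvPolynomial (Fin (N + 1)) k} (h : D ∣ α ^ 2 - β ^ 2 * δ) (hβ : ¬ D ∣ β) :
    ∃ γ, D ∣ γ ^ 2 - δ := by
  let A := MvPolynomial (Fin (N + 1)) k ⧸ Ideal.span {D}
  let m : MvPolynomial (Fin (N + 1)) k →+* A := Ideal.Quotient.mk _
  let K := FractionRing A
  have hm : ∀ p, m p = 0 ↔ D ∣ p := fun p => by
    rw [Ideal.Quotient.eq_zero_iff_mem, Ideal.mem_span_singleton]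
  have hβ' : algebraMap A K (m β) ≠ 0 := by
    rw [Ne, FaithfulSMul.algebraMap_eq_zero_iff, hm]
    exact hβ
  have h1 : m α ^ 2 = m β ^ 2 * m δ := by
    rw [← sub_eq_zero, ← map_pow, ← map_pow, ← map_mul, ← map_sub, hm]
    exact h
  have h2 : (algebraMap A K (m α) / algebraMap A K (m β)) ^ 2 = algebraMap A K (m δ) := by
    rw [div_pow, div_eq_iff (pow_ne_zero _ hβ'), ← map_pow, h1, map_mul, map_pow]
    ring
  have h3 : IsIntegral A (algebraMap A K (m α) / algebraMap A K (m β)) := by
    refine IsIntegral.of_pow (n := 2) (by norm_num) ?_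
    rw [h2]
    exact isIntegral_algebraMap
  obtain ⟨y, hy⟩ := IsIntegrallyClosed.isIntegral_iff.1 h3
  obtain ⟨γ, rfl⟩ := Ideal.Quotient.mk_surjective y
  refine ⟨γ, ?_⟩
  rw [← hm, map_sub, map_pow, sub_eq_zero]
  have h4 : algebraMap A K (m γ ^ 2) = algebraMap A K (m δ) := by
    rw [map_pow, ← h2, ← hy]
  exact FaithfulSMul.algebraMap_injective A K h4

end K705.ConeDom
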