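import Groth.Agent.Fano.K705.ConeDom
import Groth.Agent.Fano.K714.Irr

/-!
# Irreducibility of the curve of residual lines: the algebra (helper705, job 441)

Symmetric `3 × 3` matrix `M = (a b d; b c e; d e f)` of forms on the plane, `a, b, c` linear and independent, `d, e`
quadratic, `f` cubic, quintic determinant `D`, smooth, rank `≥ 2` outside the origin. Then the incidence
`JJ = {(s, τ, v) | v ≠ 0, a + 2bs + cs² = 0, (cs + b)τ + d + se = 0, cτ² + 2eτ + f = 0}` is irreducible: it is birational to the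
double cover `r² = b² - ac` of the cone `D = 0`, `r = cs + b`, and `b² - ac` is not a square in the function field of the
normal cone.
-/

set_option autoImplicit false

universe u

namespace K705.IncAbs

open MvPolynomial LefPen Groth.Agent.Lefpen.H703.ZOpen K714.Irr K705.ConeDom

section Poly

variable {k : Type u} [Field k]

/-- degree reasons -/
theorem eq_zero_of_dvd {D p : MvPolynomial (Fin 3) k} {m n : ℕ} (hD : D.IsHomogeneous m) (hp : p.IsHomogeneous n)
    (hn : n < m) (h : D ∣ p) : p = 0 := by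
  by_contra hne
  obtain ⟨q, rfl⟩ := h
  have hD0 : D ≠ 0 := left_ne_zero_of_mul hne
  have hq0 : q ≠ 0 := right_ne_zero_of_mul hne
  have h1 := hp.totalDegree hne
  rw [totalDegree_mul_of_isDomain hD0 hq0, hD.totalDegree hD0] at h1
  omega

theorem aeval_line_of_isHomogeneous {p : MvPolynomial (Fin 3) k} {n : ℕ} (hp : p.IsHomogeneous n) (v : Fin 3 → k) :
    aeval (fun i => Polynomial.C (v i) * Polynomial.X) p = Polynomial.C (eval v p) * Polynomial.X ^ n := by
  rw [aeval_def, eval₂_eq', eval_eq', map_sum, Finset.sum_mul]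
  refine Finset.sum_congr rfl fun d hd => ?_
  have hdeg : ∑ i, d i = n := by
    have := hp (mem_support_iff.1 hd)
    rw [← this, Finsupp.weight_apply, Finsupp.sum_fintype _ _ (by simp)]
    simp
  simp only [mul_pow, Finset.prod_mul_distrib, Finset.prod_pow_eq_pow_sum, hdeg, map_mul, map_prod, map_pow,
    Polynomial.algebraMap_eq]
  ring

/-- constant and linear term along lines through the origin -/
theorem exists_lin (γ : MvPolynomial (Fin 3) k) : ∃ (c : k) (l : (Fin 3 → k) →ₗ[k] k), ∀ v : Fin 3 → k,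
    ∃ P : Polynomial k, aeval (fun i => Polynomial.C (v i) * Polynomial.X) γ =
      Polynomial.C c + Polynomial.X * (Polynomial.C (l v) + Polynomial.X * P) := by
  induction γ using MvPolynomial.induction_on with
  | C a => exact ⟨a, 0, fun v => ⟨0, by simp⟩⟩
  | add p q hp hq =>
    obtain ⟨c, l, h⟩ := hp
    obtain ⟨c', l', h'⟩ := hq
    refine ⟨c + c', l + l', fun v => ?_⟩
    obtain ⟨P, hP⟩ := h v
    obtain ⟨P', hP'⟩ := h' v
    refine ⟨P + P', ?_⟩
    rw [map_add, hP, hP', map_add, LinearMap.add_apply, map_add]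
    ring
  | mul_X p i hp =>
    obtain ⟨c, l, h⟩ := hp
    refine ⟨0, c • LinearMap.proj i, fun v => ?_⟩
    obtain ⟨P, hP⟩ := h v
    refine ⟨Polynomial.C (v i) * (Polynomial.C (l v) + Polynomial.X * P), ?_⟩
    rw [map_mul, hP, aeval_X, LinearMap.smul_apply, LinearMap.proj_apply, smul_eq_mul, map_mul, map_zero]
    ring

/-- a square root of `δ` modulo a form of degree `≥ 3` is a linear form on the level of functions -/
theorem exists_lin_sq {D γ δ : MvPolynomial (Fin 3) k} {m : ℕ} (hD : D.IsHomogeneous m) (hm : 3 ≤ m)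
    (hδ : δ.IsHomogeneous 2) (h : D ∣ γ ^ 2 - δ) : ∃ l : (Fin 3 → k) →ₗ[k] k, ∀ v, l v ^ 2 = eval v δ := by
  obtain ⟨q, hq⟩ := h
  obtain ⟨c, l, hl⟩ := exists_lin γ
  refine ⟨l, fun v => ?_⟩
  obtain ⟨P, hP⟩ := hl v
  have h1 := congrArg (aeval (fun i => Polynomial.C (v i) * Polynomial.X)) hq
  rw [map_sub, map_pow, map_mul, hP, aeval_line_of_isHomogeneous hD, aeval_line_of_isHomogeneous hδ] at h1
  obtain ⟨m, rfl⟩ := Nat.exists_eq_add_of_le hm
  have hc : c = 0 := by
    have h2 := congrArg (Polynomial.eval 0) h1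
    simp [pow_add] at h2
    exact h2
  rw [hc, map_zero, zero_add] at h1
  have h3 : (Polynomial.C (l v) + Polynomial.X * P) ^ 2 - Polynomial.C (eval v δ) =
      Polynomial.X * (Polynomial.C (eval v D) * Polynomial.X ^ m *
        aeval (fun i => Polynomial.C (v i) * Polynomial.X) q) := by
    have hX : (Polynomial.X ^ 2 : Polynomial k) ≠ 0 := pow_ne_zero _ Polynomial.X_ne_zero
    apply mul_left_cancel₀ hX
    linear_combination h1
  have h4 := congrArg (Polynomial.eval 0) h3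
  simp at h4
  exact sub_eq_zero.1 h4

end Poly

/-- the form `δ` has no square root in the function field of `D = 0` -/
def NS {k : Type u} [Field k] (D δ : MvPolynomial (Fin 3) k) : Prop :=
  ∀ α β : MvPolynomial (Fin 3) k, D ∣ α ^ 2 - β ^ 2 * δ → D ∣ β

section Cover

variable {k : Type u} [Field k] [IsAlgClosed k]

theorem ns_of_smooth {D δ : MvPolynomial (Fin 3) k} {m : ℕ} (hD : D.IsHomogeneous m) (hm : 3 ≤ m) (hsm : Sm D)
    (hδ : δ.IsHomogeneous 2) (hns : ¬ ∃ l : (Fin 3 → k) →ₗ[k] k, ∀ v, l v ^ 2 = eval v δ) : NS D δ := by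
  intro α β h
  by_contra hβ
  obtain ⟨h1, h2⟩ := normal_cone (N := 2) (by norm_num) hD (by omega) hsm
  obtain ⟨γ, hγ⟩ := exists_sqrt h hβ
  exact hns (exists_lin_sq hD hm hδ hγ)

/-- the double cover `y² = ε` of `D = 0` -/
def Cov (D ε : MvPolynomial (Fin 3) k) : Set ((Fin 3 → k) × k) := {w | eval w.1 D = 0 ∧ w.2 ^ 2 = eval w.1 ε}

omit [IsAlgClosed k] in
theorem exists_pair {D ε : MvPolynomial (Fin 3) k} {F : (Fin 3 → k) × k → k} (hF : IsPolyFun k F) :
    ∃ α β : MvPolynomial (Fin 3) k, ∀ w ∈ Cov D ε, F w = eval w.1 α + w.2 * eval w.1 β := by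
  refine pf_induction (p := fun F => ∃ α β : MvPolynomial (Fin 3) k, ∀ w ∈ Cov D ε,
    F w = eval w.1 α + w.2 * eval w.1 β) hF ?_ ?_ ?_ ?_
  · intro l
    refine ⟨∑ i, C (l (Pi.single i 1, 0)) * X i, C (l (0, 1)), fun w _ => ?_⟩
    have h1 : w = ∑ i, w.1 i • ((Pi.single i 1, 0) : (Fin 3 → k) × k) + w.2 • (0, 1) := by
      refine Prod.ext ?_ ?_
      · simp only [Prod.fst_add, Prod.fst_sum, Prod.smul_fst, smul_zero, add_zero]
        conv_lhs => rw [← Finset.univ_sum_single w.1]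
        refine Finset.sum_congr rfl fun i _ => ?_
        rw [← Pi.single_smul, smul_eq_mul, mul_one]
      · simp [Prod.snd_sum]
    conv_lhs => rw [h1]
    rw [map_add, map_sum, map_smul, map_sum, eval_C, smul_eq_mul]
    congr 1
    refine Finset.sum_congr rfl fun i _ => ?_
    rw [map_smul, smul_eq_mul, map_mul, eval_C, eval_X, mul_comm]
  · intro c
    exact ⟨C c, 0, fun w _ => by simp⟩
  · rintro f g - - ⟨α, β, h⟩ ⟨α', β', h'⟩
    refine ⟨α + α', β + β', fun w hw => ?_⟩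
    simp only
    rw [h w hw, h' w hw, map_add, map_add]
    ring
  · rintro f g - - ⟨α, β, h⟩ ⟨α', β', h'⟩
    refine ⟨α * α' + β * β' * ε, α * β' + α' * β, fun w hw => ?_⟩
    simp only
    rw [h w hw, h' w hw, map_add, map_add, map_mul, map_mul, map_mul, map_mul, map_mul, ← hw.2]
    ring

theorem exists_cov {D ε p : MvPolynomial (Fin 3) k} (hD : Prime D) (h : ¬ D ∣ p) :
    ∃ w ∈ Cov D ε, eval w.1 p ≠ 0 := by
  by_contra hcon
  push Not at hcon
  refine h (dvd_of_forall_eval hD fun v hv => ?_)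
  obtain ⟨y, hy⟩ := IsAlgClosed.exists_pow_nat_eq (eval v ε) (n := 2) (by norm_num)
  exact hcon (v, y) ⟨hv, hy⟩

theorem irr_cov {D ε : MvPolynomial (Fin 3) k} (hD : Prime D) (hns : NS D ε) : Irr k (Cov D ε) := by
  constructor
  · obtain ⟨w, hw, -⟩ := exists_cov (ε := ε) (p := 1) hD hD.not_dvd_one
    exact ⟨w, hw⟩
  · rintro O O' hO hO' ⟨w, hw, hwO⟩ ⟨w', hw', hwO'⟩
    obtain ⟨F, hF, hFw, hFO⟩ := hO w hwO
    obtain ⟨G, hG, hGw, hGO⟩ := hO' w' hwO'
    obtain ⟨α, β, h1⟩ := exists_pair (D := D) (ε := ε) hF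
    obtain ⟨α', β', h2⟩ := exists_pair (D := D) (ε := ε) hG
    have key : ∀ α β : MvPolynomial (Fin 3) k, ∀ w ∈ Cov D ε, eval w.1 α + w.2 * eval w.1 β ≠ 0 →
        ¬ D ∣ α ^ 2 - β ^ 2 * ε := by
      intro α β w hw hne hdvd
      have hβ := hns α β hdvd
      have hα : D ∣ α := by
        refine hD.dvd_of_dvd_pow (n := 2) ?_
        have h3 : D ∣ β ^ 2 * ε := Dvd.dvd.mul_right (Dvd.dvd.pow hβ (by norm_num)) _
        have h4 := dvd_add hdvd h3
        rwa [sub_add_cancel] at h4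
      obtain ⟨α', rfl⟩ := hα
      obtain ⟨β', rfl⟩ := hβ
      apply hne
      rw [map_mul, map_mul, hw.1]
      ring
    rw [h1 w hw] at hFw
    rw [h2 w' hw'] at hGw
    have h3 := key α β w hw hFw
    have h4 := key α' β' w' hw' hGw
    obtain ⟨z, hz, hz2⟩ := exists_cov (ε := ε) hD (fun h => (hD.dvd_or_dvd h).elim h3 h4)
    refine ⟨z, hz, hFO z ?_, hGO z ?_⟩
    · rw [h1 z hz]
      intro h0
      apply hz2
      have h5 : eval z.1 (α ^ 2 - β ^ 2 * ε) =
          (eval z.1 α + z.2 * eval z.1 β) * (eval z.1 α - z.2 * eval z.1 β) := by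
        rw [map_sub, map_mul, map_pow, map_pow, ← hz.2]
        ring
      rw [map_mul, h5, h0]
      ring
    · rw [h2 z hz]
      intro h0
      apply hz2
      have h5 : eval z.1 (α' ^ 2 - β' ^ 2 * ε) =
          (eval z.1 α' + z.2 * eval z.1 β') * (eval z.1 α' - z.2 * eval z.1 β') := by
        rw [map_sub, map_mul, map_pow, map_pow, ← hz.2]
        ring
      rw [map_mul, h5, h0]
      ring

end Cover

section Rat

variable {k : Type u} [Field k] {V W : Type u} [AddCommGroup V] [Module k V] [AddCommGroup W] [Module k W]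

theorem irr_image_rat {Λ : Set V} (h : Irr k Λ) {δ : V → k} (hδ : IsPolyFun k δ) {Q P : V → W} (hQ : IsPolyMap k Q)
    (hP : IsPolyMap k P) (hne : ∀ b ∈ Λ, δ b ≠ 0) : Irr k ((fun b => Q b + (δ b)⁻¹ • P b) '' Λ) := by
  refine ⟨h.1.image _, ?_⟩
  rintro O O' hO hO' ⟨_, ⟨v, hv, rfl⟩, hvO⟩ ⟨_, ⟨w, hw, rfl⟩, hwO⟩
  obtain ⟨x, hx, hx1, hx2⟩ := h.2 _ _ (isZOpen_rat hO hδ hQ hP) (isZOpen_rat hO' hδ hQ hP) ⟨v, hv, hne v hv, hvO⟩
    ⟨w, hw, hne w hw, hwO⟩
  exact ⟨_, ⟨x, hx, rfl⟩, hx1.2, hx2.2⟩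

end Rat

section Main

variable {k : Type u} [Field k]

/-- the determinant -/
noncomputable def dt (a b c d e f : MvPolynomial (Fin 3) k) : MvPolynomial (Fin 3) k :=
  a * (c * f - e ^ 2) - b * (b * f - d * e) + d * (b * e - c * d)

/-- the incidence -/
def JJ (a b c d e f : MvPolynomial (Fin 3) k) : Set ((k × k) × (Fin 3 → k)) :=
  {z | z.2 ≠ 0 ∧ eval z.2 a + 2 * eval z.2 b * z.1.1 + eval z.2 c * z.1.1 ^ 2 = 0 ∧
    (eval z.2 c * z.1.1 + eval z.2 b) * z.1.2 + eval z.2 d + z.1.1 * eval z.2 e = 0 ∧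
    eval z.2 c * z.1.2 ^ 2 + 2 * eval z.2 e * z.1.2 + eval z.2 f = 0}

/-- the part `r ≠ 0, c ≠ 0` -/
def JJ1 (a b c d e f : MvPolynomial (Fin 3) k) : Set ((k × k) × (Fin 3 → k)) :=
  {z | z ∈ JJ a b c d e f ∧ eval z.2 c ≠ 0 ∧ eval z.2 c * z.1.1 + eval z.2 b ≠ 0}

variable {a b c d e f : MvPolynomial (Fin 3) k}

theorem mul_dt : c * dt a b c d e f = (b ^ 2 - a * c) * (e ^ 2 - c * f) - (b * e - c * d) ^ 2 := by
  unfold dt
  ring

theorem isHomogeneous_dt (ha : a.IsHomogeneous 1) (hb : b.IsHomogeneous 1) (hc : c.IsHomogeneous 1)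
    (hd : d.IsHomogeneous 2) (he : e.IsHomogeneous 2) (hf : f.IsHomogeneous 3) : (dt a b c d e f).IsHomogeneous 5 := by
  unfold dt
  exact ((ha.mul ((hc.mul hf).sub (he.pow 2))).sub (hb.mul ((hb.mul hf).sub (hd.mul he)))).add
    (hd.mul ((hb.mul he).sub (hc.mul hd)))

section alg

variable {a b c d e f s t r y : k}

theorem alg_dt (h1 : a + 2 * b * s + c * s ^ 2 = 0) (h2 : (c * s + b) * t + d + s * e = 0)
    (h3 : c * t ^ 2 + 2 * e * t + f = 0) : a * (c * f - e ^ 2) - b * (b * f - d * e) + d * (b * e - c * d) = 0 := by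
  linear_combination ((c * t ^ 2 + 2 * e * t + f) * c - (t * c + e) ^ 2) * h1 +
    (-((c * s + b) * t + d + s * e) * c + 2 * (b + s * c) * (t * c + e)) * h2 - (b + s * c) ^ 2 * h3

theorem alg_A (hc : c ≠ 0) (hr0 : r ≠ 0) (hr : c * s + b = r) (hr2 : r ^ 2 = b ^ 2 - a * c) (ht : r * t + d + s * e = 0)
    (hD : a * (c * f - e ^ 2) - b * (b * f - d * e) + d * (b * e - c * d) = 0) :
    a + 2 * b * s + c * s ^ 2 = 0 ∧ (c * s + b) * t + d + s * e = 0 ∧ c * t ^ 2 + 2 * e * t + f = 0 := by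
  subst hr
  refine ⟨?_, ht, ?_⟩
  · apply mul_left_cancel₀ hc
    linear_combination hr2
  · have h1 : (c * s + b) * (c * t + e) = b * e - c * d := by linear_combination c * ht
    apply mul_left_cancel₀ (mul_ne_zero hc (pow_ne_zero 2 hr0))
    have h2 : (c * s + b) ^ 2 * (c * t + e) ^ 2 = (b * e - c * d) ^ 2 := by rw [← h1]; ring
    linear_combination h2 - (e ^ 2 - c * f) * hr2 - c * hD

theorem alg_B (hc : c ≠ 0) (hy0 : y ≠ 0) (hr : c * s + b = r) (hy : c * t + e = y) (hy2 : y ^ 2 = e ^ 2 - c * f)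
    (hry : r * y = b * e - c * d)
    (hD : a * (c * f - e ^ 2) - b * (b * f - d * e) + d * (b * e - c * d) = 0) :
    a + 2 * b * s + c * s ^ 2 = 0 ∧ (c * s + b) * t + d + s * e = 0 ∧ c * t ^ 2 + 2 * e * t + f = 0 := by
  subst hr hy
  refine ⟨?_, ?_, ?_⟩
  · apply mul_left_cancel₀ (mul_ne_zero hc (pow_ne_zero 2 hy0))
    have h2 : (c * s + b) ^ 2 * (c * t + e) ^ 2 = (b * e - c * d) ^ 2 := by rw [← hry]; ring
    linear_combination h2 - (b ^ 2 - a * c) * hy2 - c * hD
  · apply mul_left_cancel₀ hc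
    linear_combination hry
  · apply mul_left_cancel₀ hc
    linear_combination hy2

end alg

section charts

theorem dt_eq_zero {z : (k × k) × (Fin 3 → k)} (hz : z ∈ JJ a b c d e f) : eval z.2 (dt a b c d e f) = 0 := by
  obtain ⟨-, h1, h2, h3⟩ := hz
  simp only [dt, map_add, map_sub, map_mul, map_pow]
  exact alg_dt h1 h2 h3

/-- charts -/
noncomputable def ch (den p q : (Fin 3 → k) × k → k) (w : (Fin 3 → k) × k) : (k × k) × (Fin 3 → k) :=
  (((0 : k × k), w.1) : (k × k) × (Fin 3 → k)) + (den w)⁻¹ • (((p w, q w), 0) : (k × k) × (Fin 3 → k))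

theorem ch_eq (den p q : (Fin 3 → k) × k → k) (w : (Fin 3 → k) × k) :
    ch den p q w = (((den w)⁻¹ * p w, (den w)⁻¹ * q w), w.1) := by
  simp [ch]

variable {den p q : (Fin 3 → k) × k → k}

theorem irr_ch {Λ : Set ((Fin 3 → k) × k)} (h : Irr k Λ) (hden : IsPolyFun k den) (hp : IsPolyFun k p)
    (hq : IsPolyFun k q) (hne : ∀ w ∈ Λ, den w ≠ 0) : Irr k (ch den p q '' Λ) :=
  irr_image_rat h hden (pm_prodMk (isPolyMap_const _) isPolyMap_fst)
    (pm_prodMk (pm_prodMk (isPolyMap_iff_isPolyFun.2 hp) (isPolyMap_iff_isPolyFun.2 hq)) (isPolyMap_const _)) hne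

theorem zo_ch {O : Set ((k × k) × (Fin 3 → k))} (hO : IsZOpen k O) (hden : IsPolyFun k den) (hp : IsPolyFun k p)
    (hq : IsPolyFun k q) : IsZOpen k {w | den w ≠ 0 ∧ ch den p q w ∈ O} :=
  isZOpen_rat hO hden (pm_prodMk (isPolyMap_const _) isPolyMap_fst)
    (pm_prodMk (pm_prodMk (isPolyMap_iff_isPolyFun.2 hp) (isPolyMap_iff_isPolyFun.2 hq)) (isPolyMap_const _))

theorem pf_ev (p : MvPolynomial (Fin 3) k) : IsPolyFun k (fun w : (Fin 3 → k) × k => eval w.1 p) :=
  isPolyFun_eval p fun i => (isPolyMap_fst : IsPolyMap k (fun p : (Fin 3 → k) × k => p.1))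
    (LinearMap.proj (R := k) (φ := fun _ : Fin 3 => k) i)

theorem pf_snd : IsPolyFun k (fun w : (Fin 3 → k) × k => w.2) := isPolyMap_iff_isPolyFun.1 isPolyMap_snd

end charts

theorem irr_JJ1 [IsAlgClosed k] (hD : Prime (dt a b c d e f)) (hns : NS (dt a b c d e f) (b ^ 2 - a * c))
    (hc0 : eval 0 c = 0) (hnd : ¬ dt a b c d e f ∣ c * (b ^ 2 - a * c)) : Irr k (JJ1 a b c d e f) := by
  have h1 : Irr k (Cov (dt a b c d e f) (b ^ 2 - a * c) ∩ {w | eval w.1 c * w.2 ≠ 0}) := by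
    refine (irr_cov hD hns).inter_open (isZOpen_basic (pf_mul (pf_ev c) pf_snd)) ?_
    obtain ⟨w, hw, hne⟩ := exists_cov (ε := b ^ 2 - a * c) hD hnd
    refine ⟨w, hw, ?_⟩
    rw [map_mul, ← hw.2] at hne
    exact mul_ne_zero (left_ne_zero_of_mul hne) (pow_ne_zero_iff (two_ne_zero) |>.1 (right_ne_zero_of_mul hne))
  have h2 := irr_ch (den := fun w => eval w.1 c * w.2) (p := fun w => w.2 * (w.2 - eval w.1 b))
    (q := fun w => eval w.1 (b * e - c * d) - w.2 * eval w.1 e) h1 (pf_mul (pf_ev c) pf_snd)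
    (pf_mul pf_snd (pf_sub pf_snd (pf_ev b))) (pf_sub (pf_ev _) (pf_mul pf_snd (pf_ev e))) (fun w hw => hw.2)
  convert h2 using 1
  ext z
  constructor
  · rintro ⟨hz, hc, hr⟩
    have hDz := dt_eq_zero hz
    obtain ⟨hz0, e1, e2, e3⟩ := hz
    refine ⟨(z.2, eval z.2 c * z.1.1 + eval z.2 b), ⟨⟨hDz, ?_⟩, mul_ne_zero hc hr⟩, ?_⟩
    · simp only [map_sub, map_pow, map_mul]
      linear_combination eval z.2 c * e1
    · rw [ch_eq]
      simp only
      refine Prod.ext (Prod.ext ?_ ?_) rfl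
      · simp only
        rw [inv_mul_eq_iff_eq_mul₀ (mul_ne_zero hc hr)]
        ring
      · simp only
        rw [inv_mul_eq_iff_eq_mul₀ (mul_ne_zero hc hr)]
        simp only [map_sub, map_mul]
        linear_combination (- eval z.2 c) * e2
  · rintro ⟨w, ⟨⟨hDw, hw2⟩, hne⟩, rfl⟩
    rw [ch_eq]
    have hc : eval w.1 c ≠ 0 := left_ne_zero_of_mul hne
    have hr : w.2 ≠ 0 := right_ne_zero_of_mul hne
    have hs : eval w.1 c * ((eval w.1 c * w.2)⁻¹ * (w.2 * (w.2 - eval w.1 b))) + eval w.1 b = w.2 := by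
      field_simp
      ring
    simp only [dt, map_add, map_sub, map_mul, map_pow] at hDw hw2
    obtain ⟨e1, e2, e3⟩ := alg_A (t := (eval w.1 c * w.2)⁻¹ * (eval w.1 (b * e - c * d) - w.2 * eval w.1 e)) hc hr hs hw2
      (by
        simp only [map_sub, map_mul]
        field_simp
        ring) hDw
    refine ⟨⟨?_, e1, e2, e3⟩, hc, ?_⟩
    · intro h0
      simp only at h0
      rw [h0] at hc
      exact hc hc0
    · simp only
      rw [hs]
      exact hr

theorem irr_JJ [IsAlgClosed k] (h2 : (2 : k) ≠ 0) (ha : a.IsHomogeneous 1) (hb : b.IsHomogeneous 1)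
    (hc : c.IsHomogeneous 1) (hd : d.IsHomogeneous 2) (he : e.IsHomogeneous 2) (hf : f.IsHomogeneous 3)
    (hsm : Sm (dt a b c d e f)) {v1 v3 : Fin 3 → k} (h1 : eval v1 a = 1 ∧ eval v1 b = 0 ∧ eval v1 c = 0)
    (h3 : eval v3 a = 0 ∧ eval v3 b = 0 ∧ eval v3 c = 1)
    (h4 : eval (v1 + v3) a = 1 ∧ eval (v1 + v3) b = 0 ∧ eval (v1 + v3) c = 1)
    (hind : ∀ v, eval v a = 0 → eval v b = 0 → eval v c = 0 → v = 0)
    (hrk : ∀ v, v ≠ 0 → eval v (a * c - b ^ 2) = 0 → eval v (a * e - b * d) = 0 → eval v (b * e - c * d) = 0 →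
      eval v (a * f - d ^ 2) = 0 → eval v (b * f - d * e) = 0 → eval v (c * f - e ^ 2) = 0 → False) :
    Irr k (JJ a b c d e f) := by
  have hD5 : (dt a b c d e f).IsHomogeneous 5 := isHomogeneous_dt ha hb hc hd he hf
  have hD0 : dt a b c d e f ≠ 0 := hsm.ne_zero
  have hdom := (normal_cone (N := 2) (by norm_num) hD5 (by norm_num) hsm).1
  have hD : Prime (dt a b c d e f) := prime_of_isDomain hD0
  have hδh : (b ^ 2 - a * c).IsHomogeneous 2 := (hb.pow 2).sub (ha.mul hc)
  have hεh : (e ^ 2 - c * f).IsHomogeneous 4 := (he.pow 2).sub (hc.mul hf)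
  have hhh : (b * e - c * d).IsHomogeneous 3 := (hb.mul he).sub (hc.mul hd)
  have hc0 : c ≠ 0 := by
    rintro rfl
    simp at h3
  have hcD : c * dt a b c d e f ≠ 0 := mul_ne_zero hc0 hD0
  have hδ0 : b ^ 2 - a * c ≠ 0 := by
    intro h
    have h5 := congrArg (eval (v1 + v3)) h
    rw [map_sub, map_pow, map_mul, h4.1, h4.2.1, h4.2.2] at h5
    simp at h5
  have hsmall : ∀ {n : ℕ} {p : MvPolynomial (Fin 3) k}, p.IsHomogeneous n → n < 5 → p ≠ 0 → ¬ dt a b c d e f ∣ p :=
    fun hp hn hp0 hdvd => hp0 (eq_zero_of_dvd hD5 hp hn hdvd)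
  have hnsδ : NS (dt a b c d e f) (b ^ 2 - a * c) := by
    refine ns_of_smooth hD5 (by norm_num) hsm hδh ?_
    rintro ⟨l, hl⟩
    have e1 := hl v1
    have e3 := hl v3
    have e4 := hl (v1 + v3)
    rw [map_sub, map_pow, map_mul, h1.1, h1.2.1, h1.2.2] at e1
    rw [map_sub, map_pow, map_mul, h3.1, h3.2.1, h3.2.2] at e3
    rw [map_sub, map_pow, map_mul, h4.1, h4.2.1, h4.2.2, map_add] at e4
    have e1' : l v1 = 0 := by simpa using e1
    have e3' : l v3 = 0 := by simpa using e3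
    rw [e1', e3'] at e4
    simp at e4
  have hε0 : e ^ 2 - c * f ≠ 0 := by
    intro h
    have h5 := mul_dt (a := a) (b := b) (c := c) (d := d) (e := e) (f := f)
    rw [h, mul_zero, zero_sub] at h5
    have h6 : dt a b c d e f ∣ (b * e - c * d) ^ 2 := by
      rw [← dvd_neg, ← h5]
      exact dvd_mul_left _ _
    have h7 := eq_zero_of_dvd hD5 hhh (by norm_num) (hD.dvd_of_dvd_pow h6)
    rw [h7] at h5
    apply hcD
    rw [h5]
    ring
  have hh0 : b * e - c * d ≠ 0 := by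
    intro h
    have h5 := mul_dt (a := a) (b := b) (c := c) (d := d) (e := e) (f := f)
    rw [h] at h5
    have h6 : dt a b c d e f ∣ (b ^ 2 - a * c) * (e ^ 2 - c * f) := by
      refine ⟨c, ?_⟩
      linear_combination - h5
    exact (hD.dvd_or_dvd h6).elim (hsmall hδh (by norm_num) hδ0) (hsmall hεh (by norm_num) hε0)
  have hnsε : NS (dt a b c d e f) (e ^ 2 - c * f) := by
    intro α β h
    have h5 : dt a b c d e f ∣ (β * (b * e - c * d)) ^ 2 - α ^ 2 * (b ^ 2 - a * c) := by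
      have h6 : (β * (b * e - c * d)) ^ 2 - α ^ 2 * (b ^ 2 - a * c) =
          (α ^ 2 - β ^ 2 * (e ^ 2 - c * f)) * (- (b ^ 2 - a * c)) + dt a b c d e f * (- (β ^ 2 * c)) := by
        linear_combination β ^ 2 * mul_dt (a := a) (b := b) (c := c) (d := d) (e := e) (f := f)
      rw [h6]
      exact dvd_add (h.mul_right _) (dvd_mul_right _ _)
    have hα := hnsδ _ _ h5
    have h6 : dt a b c d e f ∣ β ^ 2 * (e ^ 2 - c * f) := by
      have h7 := dvd_sub (Dvd.dvd.pow hα (two_ne_zero)) h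
      rwa [sub_sub_cancel] at h7
    exact (hD.dvd_or_dvd h6).elim (fun h => hD.dvd_of_dvd_pow h) (fun h => (hsmall hεh (by norm_num) hε0 h).elim)
  have hev0 : ∀ {p : MvPolynomial (Fin 3) k}, p.IsHomogeneous 1 → eval 0 p = 0 := fun {p} hp => by
    have h5 := hp.coeff_eq_zero (d := 0) (by simp)
    rw [← constantCoeff_eq] at h5
    have h6 : eval (0 : Fin 3 → k) p = constantCoeff p := by
      rw [constantCoeff_eq, eval_zero, constantCoeff_eq]
    rw [h6, h5]
  have hJ1 : Irr k (JJ1 a b c d e f) := irr_JJ1 hD hnsδ (hev0 hc)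
    (hsmall (hc.mul hδh) (by norm_num) (mul_ne_zero hc0 hδ0))
  refine hJ1.of_dense (fun z hz => hz.1) ?_
  intro z hz O hO hzO
  have hDz := dt_eq_zero hz
  have hz' := hz
  obtain ⟨hz0, e1, e2, e3⟩ := hz'
  by_cases hr : eval z.2 c * z.1.1 + eval z.2 b = 0
  · -- chart 3
    have hcz : eval z.2 c ≠ 0 := by
      intro hcz
      rw [hcz, zero_mul, zero_add] at hr
      rw [hcz, hr] at e1
      exact hz0 (hind z.2 (by simpa using e1) hr hcz)
    have hy2 : (eval z.2 c * z.1.2 + eval z.2 e) ^ 2 = eval z.2 e ^ 2 - eval z.2 c * eval z.2 f := by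
      linear_combination eval z.2 c * e3
    have hr2 : (eval z.2 c * z.1.1 + eval z.2 b) ^ 2 = eval z.2 b ^ 2 - eval z.2 a * eval z.2 c := by
      linear_combination eval z.2 c * e1
    have hry : (eval z.2 c * z.1.1 + eval z.2 b) * (eval z.2 c * z.1.2 + eval z.2 e) =
        eval z.2 b * eval z.2 e - eval z.2 c * eval z.2 d := by
      linear_combination eval z.2 c * e2
    have hy0 : eval z.2 c * z.1.2 + eval z.2 e ≠ 0 := by
      intro hy0
      rw [hy0] at hy2
      rw [hr] at hr2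
      rw [hr, zero_mul] at hry
      have m1 : eval z.2 a * eval z.2 c = eval z.2 b ^ 2 := by linear_combination hr2
      have m2 : eval z.2 c * eval z.2 f = eval z.2 e ^ 2 := by linear_combination hy2
      have m3 : eval z.2 c * eval z.2 d = eval z.2 b * eval z.2 e := by linear_combination hry
      refine hrk z.2 hz0 ?_ ?_ ?_ ?_ ?_ ?_ <;> simp only [map_sub, map_mul, map_pow]
      · linear_combination m1
      · apply mul_left_cancel₀ hcz
        linear_combination eval z.2 e * m1 - eval z.2 b * m3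
      · linear_combination - m3
      · apply mul_left_cancel₀ (pow_ne_zero 2 hcz)
        linear_combination (eval z.2 c * eval z.2 f) * m1 + eval z.2 b ^ 2 * m2 -
          (eval z.2 c * eval z.2 d + eval z.2 b * eval z.2 e) * m3
      · apply mul_left_cancel₀ hcz
        linear_combination eval z.2 b * m2 - eval z.2 e * m3
      · linear_combination m2
    have hw : (z.2, eval z.2 c * z.1.2 + eval z.2 e) ∈ Cov (dt a b c d e f) (e ^ 2 - c * f) := ⟨hDz, by
      simpa only [map_sub, map_mul, map_pow] using hy2⟩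
    have hO' := zo_ch (den := fun w => eval w.1 c * w.2) (p := fun w => eval w.1 (b * e - c * d) - eval w.1 b * w.2)
      (q := fun w => w.2 * (w.2 - eval w.1 e)) hO (pf_mul (pf_ev c) pf_snd) (pf_sub (pf_ev _) (pf_mul (pf_ev b) pf_snd))
      (pf_mul pf_snd (pf_sub pf_snd (pf_ev e)))
    have hchz : ch (fun w => eval w.1 c * w.2) (fun w => eval w.1 (b * e - c * d) - eval w.1 b * w.2)
        (fun w => w.2 * (w.2 - eval w.1 e)) (z.2, eval z.2 c * z.1.2 + eval z.2 e) = z := by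
      rw [ch_eq]
      refine Prod.ext (Prod.ext ?_ ?_) rfl
      · simp only
        rw [inv_mul_eq_iff_eq_mul₀ (mul_ne_zero hcz hy0)]
        simp only [map_sub, map_mul]
        linear_combination - hry
      · simp only
        rw [inv_mul_eq_iff_eq_mul₀ (mul_ne_zero hcz hy0)]
        ring
    obtain ⟨w', hw'⟩ := exists_cov (ε := e ^ 2 - c * f) hD (hsmall hhh (by norm_num) hh0)
    obtain ⟨w, hwC, ⟨hwne, hwO⟩, hwh⟩ := (irr_cov hD hnsε).2 _ _ hO' (isZOpen_basic (pf_ev (b * e - c * d)))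
      ⟨_, hw, mul_ne_zero hcz hy0, by
        rw [hchz]
        exact hzO⟩ ⟨w', hw'.1, hw'.2⟩
    refine ⟨_, ?_, hwO⟩
    rw [ch_eq]
    obtain ⟨hDw, hw2⟩ := hwC
    have hcw : eval w.1 c ≠ 0 := left_ne_zero_of_mul hwne
    have hyw : w.2 ≠ 0 := right_ne_zero_of_mul hwne
    have hwh' : eval w.1 (b * e - c * d) ≠ 0 := hwh
    simp only [dt, map_add, map_sub, map_mul, map_pow] at hDw hw2 hwh'
    have hrw : eval w.1 c * ((eval w.1 c * w.2)⁻¹ * (eval w.1 (b * e - c * d) - eval w.1 b * w.2)) + eval w.1 b =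
        w.2⁻¹ * (eval w.1 b * eval w.1 e - eval w.1 c * eval w.1 d) := by
      simp only [map_sub, map_mul]
      field_simp
      ring
    have hyw' : eval w.1 c * ((eval w.1 c * w.2)⁻¹ * (w.2 * (w.2 - eval w.1 e))) + eval w.1 e = w.2 := by
      field_simp
      ring
    obtain ⟨f1, f2, f3⟩ := alg_B hcw hyw hrw hyw' hw2 (by field_simp) hDw
    refine ⟨⟨?_, f1, f2, f3⟩, hcw, ?_⟩
    · intro h0
      simp only at h0
      rw [h0] at hcw
      exact hcw (hev0 hc)
    · simp only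
      rw [hrw]
      exact mul_ne_zero (inv_ne_zero hyw) hwh'
  · by_cases hcz : eval z.2 c = 0
    · -- chart 2
      rw [hcz, zero_mul, zero_add] at hr
      have hw : (z.2, eval z.2 b) ∈ Cov (dt a b c d e f) (b ^ 2 - a * c) := ⟨hDz, by
        simp only [map_sub, map_mul, map_pow, hcz]
        ring⟩
      have hden0 : eval z.2 b * (eval z.2 b + eval z.2 b) ≠ 0 := by
        rw [← two_mul]
        exact mul_ne_zero hr (mul_ne_zero h2 hr)
      have hO' := zo_ch (den := fun w => w.2 * (w.2 + eval w.1 b)) (p := fun w => - (eval w.1 a * w.2))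
        (q := fun w => - (eval w.1 d * (w.2 + eval w.1 b) - eval w.1 (a * e))) hO
        (pf_mul pf_snd (pf_add pf_snd (pf_ev b))) (pf_neg (pf_mul (pf_ev a) pf_snd))
        (pf_neg (pf_sub (pf_mul (pf_ev d) (pf_add pf_snd (pf_ev b))) (pf_ev (a * e))))
      have hchz : ch (fun w => w.2 * (w.2 + eval w.1 b)) (fun w => - (eval w.1 a * w.2))
          (fun w => - (eval w.1 d * (w.2 + eval w.1 b) - eval w.1 (a * e))) (z.2, eval z.2 b) = z := by
        rw [ch_eq]
        rw [hcz] at e1 e2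
        refine Prod.ext (Prod.ext ?_ ?_) rfl
        · simp only
          rw [inv_mul_eq_iff_eq_mul₀ hden0]
          linear_combination (- eval z.2 b) * e1
        · simp only
          rw [inv_mul_eq_iff_eq_mul₀ hden0]
          simp only [map_mul]
          linear_combination (- 2 * eval z.2 b) * e2 + eval z.2 e * e1
      obtain ⟨w', hw'⟩ := exists_cov (ε := b ^ 2 - a * c) hD (hsmall hc (by norm_num) hc0)
      obtain ⟨w, hwC, ⟨hwne, hwO⟩, hwc⟩ := (irr_cov hD hnsδ).2 _ _ hO' (isZOpen_basic (pf_ev c))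
        ⟨_, hw, hden0, by
          rw [hchz]
          exact hzO⟩ ⟨w', hw'.1, hw'.2⟩
      refine ⟨_, ?_, hwO⟩
      rw [ch_eq]
      obtain ⟨hDw, hw2⟩ := hwC
      have hcw : eval w.1 c ≠ 0 := hwc
      have hrw : w.2 ≠ 0 := left_ne_zero_of_mul hwne
      simp only [dt, map_add, map_sub, map_mul, map_pow] at hDw hw2
      have hi : (w.2 * (w.2 + eval w.1 b)) * (w.2 * (w.2 + eval w.1 b))⁻¹ = 1 := mul_inv_cancel₀ hwne
      have hs : eval w.1 c * ((w.2 * (w.2 + eval w.1 b))⁻¹ * (- (eval w.1 a * w.2))) + eval w.1 b = w.2 := by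
        apply mul_left_cancel₀ hwne
        linear_combination (- eval w.1 c * eval w.1 a * w.2) * hi - w.2 * hw2
      obtain ⟨f1, f2, f3⟩ := alg_A (t := (w.2 * (w.2 + eval w.1 b))⁻¹ *
        (- (eval w.1 d * (w.2 + eval w.1 b) - eval w.1 (a * e)))) hcw hrw hs hw2 (by
        apply mul_left_cancel₀ hwne
        simp only [map_mul]
        linear_combination (- w.2 * (eval w.1 d * (w.2 + eval w.1 b) - eval w.1 a * eval w.1 e) -
          eval w.1 a * w.2 * eval w.1 e) * hi) hDw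
      refine ⟨⟨?_, f1, f2, f3⟩, hcw, ?_⟩
      · intro h0
        simp only at h0
        rw [h0] at hcw
        exact hcw (hev0 hc)
      · simp only
        rw [hs]
        exact hrw
    · exact ⟨z, ⟨hz, hcz, hr⟩, hzO⟩

end Main

end K705.IncAbs
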